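import Mathlib
import Cfsg.Prelude.Def_Local
import Cfsg.Agent.Lib.Helper4.ThBRes
import Cfsg.Agent.Lib.Helper4.ThBBase

/-!
# S3801 (Gross, `l_2 ≤ 2e - 1`), block R: reduction of theorem (T) to the CORE configuration.

Designer: helper5.  Directory `Cfsg/Agent/Lib/GRR/`, namespace `Cfsg.Agent.Helper5.GRR`.
Setting = helper4's `ThB` library: linear groups are `H : Subgroup (V ≃ₗ[K] V)`, `op g : Module.End K V`,
`Inv`, `img`, `Irr`, `Simp`, `resHom`, `quotHom`.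

(T): `H` finite solvable, `char K = 2`, `g ∈ H`, `g^(2^m) = 1`, `(g-1)^(2^m-1) = 0`  ⟹
`g0 := g^(2^(m-1))` lies in a normal subgroup of `H` with a normal series (2-group, odd order, 2-group)
(`In222`); if `O_2(H) = 1` this says `g0 ∈ O_{2',2}(H)` (`In22`).
-/

set_option autoImplicit false
set_option linter.unusedSectionVars false
set_option linter.style.haveILetI false

namespace Cfsg.Agent.Helper5.GRR

open Cfsg.Agent.Helper4.ThB Module

universe u v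

/-- a normal series `N₁ ≤ N₂ ≤ N₃` of type (2-group, odd order, 2-group), in elementwise form -/
structure Ser222 {Γ : Type*} [Group Γ] (N₁ N₂ N₃ : Subgroup Γ) : Prop where
  n1 : N₁.Normal
  n2 : N₂.Normal
  n3 : N₃.Normal
  le12 : N₁ ≤ N₂
  le23 : N₂ ≤ N₃
  two1 : ∀ y ∈ N₁, ∃ k : ℕ, y ^ 2 ^ k = 1
  odd2 : ∀ y ∈ N₂, ∃ k : ℕ, Odd k ∧ y ^ k ∈ N₁
  two3 : ∀ y ∈ N₃, ∃ k : ℕ, y ^ 2 ^ k ∈ N₂

/-- `x ∈ O_{2,2',2}(Γ)` (elementwise form) -/
def In222 {Γ : Type*} [Group Γ] (x : Γ) : Prop :=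
  ∃ N₁ N₂ N₃ : Subgroup Γ, Ser222 N₁ N₂ N₃ ∧ x ∈ N₃

/-- `x ∈ O_{2',2}(Γ)` (elementwise form) -/
def In22 {Γ : Type*} [Group Γ] (x : Γ) : Prop :=
  ∃ N₂ N₃ : Subgroup Γ, Ser222 ⊥ N₂ N₃ ∧ x ∈ N₃

variable {K : Type u} [Field K] {V : Type v} [AddCommGroup V] [Module K V]

/-- `Γ` has no nontrivial normal 2-subgroup (elementwise form of `O_2(Γ) = 1`) -/
def NoO2 (Γ : Type*) [Group Γ] : Prop :=
  ∀ N : Subgroup Γ, N.Normal → (∀ y ∈ N, ∃ k : ℕ, y ^ 2 ^ k = 1) → N = ⊥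

/-- `b` acts as a scalar -/
def IsScal (b : V ≃ₗ[K] V) : Prop := ∃ c : K, op b = c • (1 : Module.End K V)

/-- a system of blocks: a finite set of nonzero independent subspaces with sum `V`, permuted by `H` -/
structure Blocks (H : Subgroup (V ≃ₗ[K] V)) (𝒲 : Finset (Submodule K V)) : Prop where
  ne_bot : ∀ W ∈ 𝒲, W ≠ ⊥
  indep : sSupIndep (𝒲 : Set (Submodule K V))
  top : sSup (𝒲 : Set (Submodule K V)) = ⊤
  perm : ∀ h ∈ H, ∀ W ∈ 𝒲, img h W ∈ 𝒲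

/-- the stabiliser in `H` of a subspace -/
def stab (H : Subgroup (V ≃ₗ[K] V)) (W : Submodule K V) : Subgroup (V ≃ₗ[K] V) where
  carrier := {h | h ∈ H ∧ img h W = W}
  one_mem' := ⟨H.one_mem, img_one W⟩
  mul_mem' := by
    rintro a b ⟨ha, ha'⟩ ⟨hb, hb'⟩
    exact ⟨H.mul_mem ha hb, by rw [img_mul, hb', ha']⟩
  inv_mem' := by
    rintro a ⟨ha, ha'⟩
    refine ⟨H.inv_mem ha, ?_⟩
    have h1 : img (a⁻¹ * a) W = W := by rw [inv_mul_cancel, img_one]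
    rw [img_mul, ha'] at h1
    exact h1

/-- the kernel of the permutation action of `H` on a set of subspaces -/
def fixAll (H : Subgroup (V ≃ₗ[K] V)) (𝒲 : Finset (Submodule K V)) : Subgroup (V ≃ₗ[K] V) where
  carrier := {h | h ∈ H ∧ ∀ W ∈ 𝒲, img h W = W}
  one_mem' := ⟨H.one_mem, fun W _ => img_one W⟩
  mul_mem' := by
    rintro a b ⟨ha, ha'⟩ ⟨hb, hb'⟩
    exact ⟨H.mul_mem ha hb, fun W hW => by rw [img_mul, hb' W hW, ha' W hW]⟩
  inv_mem' := by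
    rintro a ⟨ha, ha'⟩
    refine ⟨H.inv_mem ha, fun W hW => ?_⟩
    have h1 : img (a⁻¹ * a) W = W := by rw [inv_mul_cancel, img_one]
    rw [img_mul, ha' W hW] at h1
    exact h1

theorem stab_le (H : Subgroup (V ≃ₗ[K] V)) (W : Submodule K V) : stab H W ≤ H := fun _ h => h.1

theorem fixAll_le (H : Subgroup (V ≃ₗ[K] V)) (𝒲 : Finset (Submodule K V)) : fixAll H 𝒲 ≤ H :=
  fun _ h => h.1

theorem fixAll_le_stab (H : Subgroup (V ≃ₗ[K] V)) (𝒲 : Finset (Submodule K V))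
    {W : Submodule K V} (hW : W ∈ 𝒲) : fixAll H 𝒲 ≤ stab H W := fun _ h => ⟨h.1, h.2 W hW⟩

theorem inv_stab (H : Subgroup (V ≃ₗ[K] V)) (W : Submodule K V) :
    Inv ((stab H W : Subgroup (V ≃ₗ[K] V)) : Set (V ≃ₗ[K] V)) W := by
  intro h hh v hv
  have h1 : h v ∈ img h W := apply_mem_img hv
  rw [hh.2] at h1
  exact h1

/-- the group induced by the stabiliser of `W` on `W` -/
noncomputable def resGrp (H : Subgroup (V ≃ₗ[K] V)) (W : Submodule K V) :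
    Subgroup (W ≃ₗ[K] W) :=
  (resHom (stab H W) W (inv_stab H W)).range

/-- the simultaneous generalised eigenspace (weight space) of a subgroup `B` for the weight `χ` -/
def wt (B : Subgroup (V ≃ₗ[K] V)) (χ : B → K) : Submodule K V :=
  ⨅ b : B, Module.End.maxGenEigenspace (op b.1) (χ b)

/-- the CORE configuration: `H` irreducible and every abelian normal subgroup of odd order is scalar -/
structure Core (H : Subgroup (V ≃ₗ[K] V)) : Prop where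
  irr : Irr (H : Set (V ≃ₗ[K] V))
  scal : ∀ B : Subgroup (V ≃ₗ[K] V), B ≤ H → (∀ h ∈ H, ∀ b ∈ B, h * b * h⁻¹ ∈ B) →
    (∀ a ∈ B, ∀ b ∈ B, a * b = b * a) → Odd (Nat.card B) → ∀ b ∈ B, IsScal b

/-- what blocks P + E prove: (T) in the CORE configuration (`K` algebraically closed of char 2, `2 ≤ m`) -/
def CoreStmt (K : Type u) [Field K] : Prop :=
  ∀ (V : Type v) [AddCommGroup V] [Module K V] [FiniteDimensional K V]
    (H : Subgroup (V ≃ₗ[K] V)) [Finite H], Group.IsSolvable H → Core H →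
    ∀ (g : V ≃ₗ[K] V) (hg : g ∈ H) (m : ℕ), 2 ≤ m → g ^ 2 ^ m = 1 →
      (op g - 1) ^ (2 ^ m - 1) = 0 → In22 (⟨g ^ 2 ^ (m - 1), H.pow_mem hg _⟩ : H)

/-- the level statement of the induction on `N = dim V` -/
def Stmt222 (K : Type u) [Field K] (N : ℕ) : Prop :=
  ∀ (V : Type v) [AddCommGroup V] [Module K V] [FiniteDimensional K V]
    (H : Subgroup (V ≃ₗ[K] V)) [Finite H], finrank K V = N → Group.IsSolvable H →
    ∀ (g : V ≃ₗ[K] V) (hg : g ∈ H) (m : ℕ), 1 ≤ m → g ^ 2 ^ m = 1 →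
      (op g - 1) ^ (2 ^ m - 1) = 0 → In222 (⟨g ^ 2 ^ (m - 1), H.pow_mem hg _⟩ : H)

end Cfsg.Agent.Helper5.GRR
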