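import Mathlib
import Cfsg.Agent.Lib.GRR.GRRDefs

/-!
# Basic glue lemmas for S3801 block R (helper5)
-/

set_option autoImplicit false
set_option linter.unusedSectionVars false

namespace Cfsg.Agent.Helper5.GRR

open Cfsg.Agent.Helper4.ThB Module

universe u v

theorem in222_of_in22 {Γ : Type*} [Group Γ] {x : Γ} (h : In22 x) : In222 x := by
  obtain ⟨N₂, N₃, hs, hx⟩ := h
  exact ⟨⊥, N₂, N₃, hs, hx⟩

theorem in22_of_in222 {Γ : Type*} [Group Γ] (hno : NoO2 Γ) {x : Γ} (h : In222 x) : In22 x := by
  obtain ⟨N₁, N₂, N₃, hs, hx⟩ := h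
  have h1 : N₁ = ⊥ := hno N₁ hs.n1 hs.two1
  subst h1
  exact ⟨N₂, N₃, hs, hx⟩

theorem ser222_bot (Γ : Type*) [Group Γ] : Ser222 (⊥ : Subgroup Γ) ⊥ ⊥ where
  n1 := inferInstance
  n2 := inferInstance
  n3 := inferInstance
  le12 := le_rfl
  le23 := le_rfl
  two1 := fun y hy => ⟨0, by rw [Subgroup.mem_bot] at hy; rw [hy, one_pow]⟩
  odd2 := fun y hy => ⟨1, odd_one, by rw [pow_one]; exact hy⟩
  two3 := fun y hy => ⟨0, by rw [pow_zero, pow_one]; exact hy⟩

theorem in22_one (Γ : Type*) [Group Γ] : In22 (1 : Γ) := ⟨⊥, ⊥, ser222_bot Γ, Subgroup.one_mem _⟩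

theorem in222_one (Γ : Type*) [Group Γ] : In222 (1 : Γ) := in222_of_in22 (in22_one Γ)

variable {K : Type u} [Field K] {V : Type v} [AddCommGroup V] [Module K V]

/-- tightness passes to the restriction to an invariant subspace -/
theorem tight_res (S : Subgroup (V ≃ₗ[K] V)) (U : Submodule K V) (h : Inv (S : Set (V ≃ₗ[K] V)) U)
    (g : S) (r : ℕ) (hg : (op g.1 - 1) ^ r = 0) : (op (resHom S U h g) - 1) ^ r = 0 := by
  apply LinearMap.ext
  intro u
  apply Subtype.ext
  rw [restrict_pow_apply (op g.1 - 1) (op (resHom S U h g) - 1)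
    (fun u => restrict_sub_one (op g.1) (op (resHom S U h g)) (fun u => rfl) u) r u, hg]
  rfl

/-- tightness passes to the quotient by an invariant subspace -/
theorem tight_quot (S : Subgroup (V ≃ₗ[K] V)) (U : Submodule K V) (h : Inv (S : Set (V ≃ₗ[K] V)) U)
    (g : S) (r : ℕ) (hg : (op g.1 - 1) ^ r = 0) : (op (quotHom S U h g) - 1) ^ r = 0 := by
  apply LinearMap.ext
  intro x
  induction x using Submodule.Quotient.induction_on with
  | _ v =>
    rw [quot_pow_apply (op g.1 - 1) (op (quotHom S U h g) - 1)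
      (fun v => quot_sub_one (op g.1) (op (quotHom S U h g)) (fun v => rfl) v) r v, hg]
    rfl

/-- tightness on a subspace, elementwise form -/
theorem tight_res' (S : Subgroup (V ≃ₗ[K] V)) (U : Submodule K V) (h : Inv (S : Set (V ≃ₗ[K] V)) U)
    (g : S) (r : ℕ) (hg : ∀ u ∈ U, ((op g.1 - 1) ^ r : Module.End K V) u = 0) : (op (resHom S U h g) - 1) ^ r = 0 := by
  apply LinearMap.ext
  intro u
  apply Subtype.ext
  rw [restrict_pow_apply (op g.1 - 1) (op (resHom S U h g) - 1)
    (fun u => restrict_sub_one (op g.1) (op (resHom S U h g)) (fun u => rfl) u) r u, hg u.1 u.2]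
  rfl

/-- an element acting trivially on `U` and on `V ⧸ U` is an involution in characteristic 2 -/
theorem sq_eq_one_of_unip [CharP K 2] (U : Submodule K V) (x : V ≃ₗ[K] V)
    (h1 : ∀ u ∈ U, x u = u) (h2 : ∀ v : V, x v - v ∈ U) : x ^ 2 = 1 := by
  apply LinearEquiv.ext
  intro v
  have h3 : x (x v - v) = x v - v := h1 _ (h2 v)
  rw [map_sub] at h3
  have h4 : x (x v) = x v + x v - v := by
    have : x (x v) = x (x v) - x v + x v := by abel
    rw [this, h3]; abel
  have h5 : x v + x v = 0 := by
    have : x v + x v = (2 : K) • x v := by rw [two_smul]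
    rw [this, CharTwo.two_eq_zero, zero_smul]
  show (x ^ 2) v = v
  rw [pow_two]
  show x (x v) = v
  rw [h4, h5, zero_sub]
  have : -v = v := by
    have h6 : v + v = 0 := by
      have : v + v = (2 : K) • v := by rw [two_smul]
      rw [this, CharTwo.two_eq_zero, zero_smul]
    exact neg_eq_of_add_eq_zero_left h6
  exact this

theorem finite_range {G G' : Type*} [Group G] [Group G'] [Finite G] (f : G →* G') : Finite f.range :=
  Finite.of_surjective f.rangeRestrict f.rangeRestrict_surjective

theorem solvable_range {G G' : Type*} [Group G] [Group G'] (hs : Group.IsSolvable G) (f : G →* G') :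
    Group.IsSolvable f.range :=
  Group.isSolvable_of_surjective f.rangeRestrict_surjective

theorem solvable_of_le {G : Type*} [Group G] {A B : Subgroup G} (hAB : A ≤ B) (hs : Group.IsSolvable B) :
    Group.IsSolvable A :=
  Group.isSolvable_of_isSolvable_injective (Subgroup.inclusion_injective hAB)

theorem finite_of_le {G : Type*} [Group G] {A B : Subgroup G} (hAB : A ≤ B) [Finite B] : Finite A :=
  Finite.of_injective (Subgroup.inclusion hAB) (Subgroup.inclusion_injective hAB)

theorem finite_resGrp (H : Subgroup (V ≃ₗ[K] V)) [Finite H] (W : Submodule K V) : Finite (resGrp H W) := by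
  have : Finite (stab H W) := finite_of_le (stab_le H W)
  exact finite_range _

theorem solvable_resGrp (H : Subgroup (V ≃ₗ[K] V)) (hs : Group.IsSolvable H) (W : Submodule K V) :
    Group.IsSolvable (resGrp H W) :=
  solvable_range (solvable_of_le (stab_le H W) hs) _

end Cfsg.Agent.Helper5.GRR
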