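import Mathlib
import Cfsg.Agent.Lib.GRR.GRRDefs
import Cfsg.Agent.Lib.Helper22.PPrimeCore
import Cfsg.Agent.Lib.Helper7.Cores
import Cfsg.Agent.Lib.Helper7.QPrimeCore

/-!
# GRR-EQV: `In22 x ↔ x ∈ O_{2',2}(Γ)` in the language of the Prelude cores (S3801 block R)

RECIPE.  (→) Given `Ser222 ⊥ N₂ N₃`, every element of `N₂` has odd order (`odd2` with `N₁ = ⊥`), so
`Nat.card N₂` is odd (else Cauchy `exists_prime_orderOf_dvd_card` gives an involution) hence coprime to 2 and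
`N₂ ≤ pPrimeCore 2 Γ` (`Helper22.le_pPrimeCore`).  The image `N₃.map (mk' (pPrimeCore 2 Γ))` is normal and a
2-group (`two3`: `y^(2^k) ∈ N₂ ≤ pPrimeCore`), so it is `≤ pCore 2 (Γ ⧸ pPrimeCore 2 Γ)` (`le_sSup`), i.e.
`N₃ ≤ pPrimePCore 2 Γ`.
(←) Take `N₂ := pPrimeCore 2 Γ` (odd order: `Helper22.card_pPrimeCore_coprime`, so `y^(card) = 1` with `card` odd)
and `N₃ := pPrimePCore 2 Γ` (normal: `Helper7.pPrimePCore_normal`); for `y ∈ N₃`, `mk y ∈ pCore 2 (Γ ⧸ _)`, which is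
a 2-group (finite join of normal 2-subgroups; see `Helper10`/`Helper14` `pCore_isPGroup` or `Helper9.PCoreSub`),
so `(mk y)^(2^k) = 1`, i.e. `y^(2^k) ∈ N₂`.
-/

set_option autoImplicit false

namespace Cfsg.Agent.Helper5.GRR

theorem mem_of_in22 {Γ : Type*} [Group Γ] [Finite Γ] (x : Γ) (h : In22 x) :
    x ∈ Cfsg.pPrimePCore 2 Γ := by
  obtain ⟨N₂, N₃, hS, hx⟩ := h
  have _i2 := hS.n2
  have _i3 := hS.n3
  -- N₂ has odd order
  have hcop : (Nat.card N₂).Coprime 2 := by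
    rw [Nat.coprime_comm, Nat.Prime.coprime_iff_not_dvd Nat.prime_two]
    intro hd
    haveI : Fact (Nat.Prime 2) := ⟨Nat.prime_two⟩
    obtain ⟨y, hy⟩ := exists_prime_orderOf_dvd_card' 2 hd
    obtain ⟨k, hk, hyk⟩ := hS.odd2 (y : Γ) y.2
    have hyk1 : (y : Γ) ^ k = 1 := (Subgroup.mem_bot.mp hyk)
    have h2k : orderOf (y : Γ) ∣ k := orderOf_dvd_of_pow_eq_one hyk1
    rw [Subgroup.orderOf_coe, hy] at h2k
    exact (Nat.not_even_iff_odd.mpr hk) (even_iff_two_dvd.mpr h2k)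
  have hN₂ : N₂ ≤ Cfsg.pPrimeCore 2 Γ := Cfsg.Agent.Helper22.le_pPrimeCore 2 N₂ hS.n2 hcop
  -- the image of N₃ is a normal 2-subgroup of the quotient
  have hMn : (N₃.map (QuotientGroup.mk' (Cfsg.pPrimeCore 2 Γ))).Normal :=
    Subgroup.Normal.map hS.n3 _ (QuotientGroup.mk'_surjective _)
  have hM2 : IsPGroup 2 (N₃.map (QuotientGroup.mk' (Cfsg.pPrimeCore 2 Γ))) := by
    rintro ⟨g, hg⟩
    obtain ⟨y, hy, rfl⟩ := hg
    obtain ⟨k, hk⟩ := hS.two3 y hy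
    refine ⟨k, ?_⟩
    apply Subtype.ext
    show ((QuotientGroup.mk' (Cfsg.pPrimeCore 2 Γ)) y) ^ 2 ^ k = 1
    rw [← map_pow]
    exact (QuotientGroup.eq_one_iff _).mpr (hN₂ hk)
  have hle : N₃.map (QuotientGroup.mk' (Cfsg.pPrimeCore 2 Γ)) ≤
      Cfsg.pCore 2 (Γ ⧸ Cfsg.pPrimeCore 2 Γ) := by
    unfold Cfsg.pCore
    exact le_sSup ⟨hMn, hM2⟩
  unfold Cfsg.pPrimePCore
  rw [Subgroup.mem_comap]
  exact hle (Subgroup.mem_map_of_mem _ hx)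

theorem in22_of_mem {Γ : Type*} [Group Γ] [Finite Γ] (x : Γ) (h : x ∈ Cfsg.pPrimePCore 2 Γ) :
    In22 x := by
  refine ⟨Cfsg.pPrimeCore 2 Γ, Cfsg.pPrimePCore 2 Γ, ?_, h⟩
  have hcop : (Nat.card (Cfsg.pPrimeCore 2 Γ)).Coprime 2 :=
    Cfsg.Agent.Helper22.card_pPrimeCore_coprime 2
  refine ⟨Subgroup.normal_bot, Cfsg.Agent.Helper22.pPrimeCore_normal 2,
    Cfsg.Agent.Helper7.pPrimePCore_normal 2, bot_le,
    Cfsg.Agent.Helper7.pPrimeCore_le_pPrimePCore_q 2, ?_, ?_, ?_⟩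
  · intro y hy
    refine ⟨0, ?_⟩
    rw [Subgroup.mem_bot.mp hy, one_pow]
  · intro y hy
    refine ⟨Nat.card (Cfsg.pPrimeCore 2 Γ), ?_, ?_⟩
    · rw [← Nat.not_even_iff_odd, even_iff_two_dvd]
      intro hd
      have := Nat.Coprime.eq_one_of_dvd hcop.symm hd
      omega
    · rw [Subgroup.mem_bot]
      have h1 : (⟨y, hy⟩ : ↥(Cfsg.pPrimeCore 2 Γ)) ^ Nat.card (Cfsg.pPrimeCore 2 Γ) = 1 :=
        pow_card_eq_one'
      have h2 := congrArg Subtype.val h1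
      rw [Subgroup.coe_pow] at h2
      exact h2
  · intro y hy
    have hy' : (QuotientGroup.mk' (Cfsg.pPrimeCore 2 Γ)) y ∈
        Cfsg.pCore 2 (Γ ⧸ Cfsg.pPrimeCore 2 Γ) := hy
    have hP : IsPGroup 2 (Cfsg.pCore 2 (Γ ⧸ Cfsg.pPrimeCore 2 Γ)) :=
      Sylow.sSup_of_normal _ (fun _ h => h.2) (fun _ h => h.1)
    obtain ⟨k, hk⟩ := hP ⟨_, hy'⟩
    refine ⟨k, ?_⟩
    have h1 := congrArg Subtype.val hk
    have h2 : ((QuotientGroup.mk' (Cfsg.pPrimeCore 2 Γ)) y) ^ 2 ^ k = 1 := by simpa using h1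
    rw [← map_pow] at h2
    exact (QuotientGroup.eq_one_iff _).mp h2

end Cfsg.Agent.Helper5.GRR
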