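import Mathlib
import Cfsg.Agent.Lib.GRR.GRREqv

/-!
# GRR-CHAR: `O_{2',2}` of a normal subgroup lies in `O_{2',2}` (S3801 block R)

RECIPE.  By `mem_of_in22` (GRR-EQV, may be used as a black box) `x ∈ pPrimePCore 2 G₀`.  Both
`pPrimeCore 2 G₀` and `pPrimePCore 2 G₀` are characteristic in `G₀` (`Helper7.pPrimeCore_characteristic`,
`Helper7.pPrimePCore_characteristic`), so their images under `G₀.subtype` are normal in `Γ`
(`ConjAct.normal_of_characteristic_of_normal`).  Take `N₂ := (pPrimeCore 2 G₀).map G₀.subtype`,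
`N₃ := (pPrimePCore 2 G₀).map G₀.subtype`; `odd2`/`two3` as in GRR-EQV (←), transported along the injective `G₀.subtype`.
Alternatively apply `in22_of_mem` inside `G₀` to get a series there and check directly that its terms, which need
NOT be characteristic, can be replaced by these two.
-/

set_option autoImplicit false

namespace Cfsg.Agent.Helper5.GRR

theorem in22_of_normal {Γ : Type*} [Group Γ] [Finite Γ] (G₀ : Subgroup Γ) [G₀.Normal] (x : G₀)
    (h : In22 x) : In22 (x : Γ) := by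
  have hx0 : x ∈ Cfsg.pPrimePCore 2 G₀ := mem_of_in22 x h
  have hc2 : (Cfsg.pPrimeCore 2 G₀).Characteristic := Cfsg.Agent.Helper7.pPrimeCore_characteristic 2
  have hc3 : (Cfsg.pPrimePCore 2 G₀).Characteristic :=
    Cfsg.Agent.Helper7.pPrimePCore_characteristic 2
  have hn2 : ((Cfsg.pPrimeCore 2 G₀).map G₀.subtype).Normal :=
    ConjAct.normal_of_characteristic_of_normal
  have hn3 : ((Cfsg.pPrimePCore 2 G₀).map G₀.subtype).Normal :=
    ConjAct.normal_of_characteristic_of_normal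
  have hcop : (Nat.card (Cfsg.pPrimeCore 2 G₀)).Coprime 2 :=
    Cfsg.Agent.Helper22.card_pPrimeCore_coprime 2
  refine ⟨(Cfsg.pPrimeCore 2 G₀).map G₀.subtype, (Cfsg.pPrimePCore 2 G₀).map G₀.subtype, ?_,
    ⟨x, hx0, rfl⟩⟩
  refine ⟨Subgroup.normal_bot, hn2, hn3, bot_le,
    Subgroup.map_mono (Cfsg.Agent.Helper7.pPrimeCore_le_pPrimePCore_q 2), ?_, ?_, ?_⟩
  · intro y hy
    refine ⟨0, ?_⟩
    rw [Subgroup.mem_bot.mp hy, one_pow]
  · rintro _ ⟨y, hy, rfl⟩
    refine ⟨Nat.card (Cfsg.pPrimeCore 2 G₀), ?_, ?_⟩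
    · rw [← Nat.not_even_iff_odd, even_iff_two_dvd]
      intro hd
      have := Nat.Coprime.eq_one_of_dvd hcop.symm hd
      omega
    · rw [Subgroup.mem_bot]
      have h1 : (⟨y, hy⟩ : ↥(Cfsg.pPrimeCore 2 G₀)) ^ Nat.card (Cfsg.pPrimeCore 2 G₀) = 1 :=
        pow_card_eq_one'
      have h2 := congrArg Subtype.val h1
      rw [Subgroup.coe_pow] at h2
      have h3 : y ^ Nat.card (Cfsg.pPrimeCore 2 G₀) = 1 := h2
      rw [← map_pow, h3, map_one]
  · rintro _ ⟨y, hy, rfl⟩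
    have hy' : (QuotientGroup.mk' (Cfsg.pPrimeCore 2 G₀)) y ∈
        Cfsg.pCore 2 (G₀ ⧸ Cfsg.pPrimeCore 2 G₀) := hy
    have hP : IsPGroup 2 (Cfsg.pCore 2 (G₀ ⧸ Cfsg.pPrimeCore 2 G₀)) :=
      Sylow.sSup_of_normal _ (fun _ h => h.2) (fun _ h => h.1)
    obtain ⟨k, hk⟩ := hP ⟨_, hy'⟩
    refine ⟨k, ?_⟩
    have h1 := congrArg Subtype.val hk
    have h2 : ((QuotientGroup.mk' (Cfsg.pPrimeCore 2 G₀)) y) ^ 2 ^ k = 1 := by simpa using h1
    rw [← map_pow] at h2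
    have h3 : y ^ 2 ^ k ∈ Cfsg.pPrimeCore 2 G₀ := (QuotientGroup.eq_one_iff _).mp h2
    rw [← map_pow]
    exact ⟨_, h3, rfl⟩

end Cfsg.Agent.Helper5.GRR
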