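import Mathlib
import Cfsg.Agent.Lib.GRR.GRRDefs

/-!
# GRR-CLIRR: Clifford — the stabiliser of a block acts irreducibly on it (S3801 block R)

RECIPE.  Let `U' : Submodule K W` be invariant under `resGrp H W`, `U := U'.map W.subtype ≤ W`; so `g u ∈ U` for `g ∈ stab H W`, `u ∈ U`.
Put `X := ⨆ h : H, img h U` (`H`-invariant since `img (h' * h) U = img h' (img h U)`; it contains `U = img 1 U`).
`Irr H` gives `X = ⊥` (then `U = ⊥`, `U' = ⊥`) or `X = ⊤`.  In the second case let `Y := sSup (𝒲 \ {W})`.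
For `h ∈ H`: either `img h W = W`, then `h ∈ stab H W` and `img h U ≤ U`; or `img h W ≠ W`, then `img h U ≤ img h W ∈ 𝒲 \ {W}`, so
`img h U ≤ Y`.  Hence `⊤ = X ≤ U ⊔ Y`.  Independence: `Disjoint W Y` (`hB.indep hW`).  Modular law (`IsModularLattice`,
`sup_inf_assoc_of_le` / `inf_sup_assoc_of_le`): `W = W ⊓ (U ⊔ Y) = U ⊔ (W ⊓ Y) = U`, i.e. `U' = ⊤`.
-/

set_option autoImplicit false

namespace Cfsg.Agent.Helper5.GRR

open Cfsg.Agent.Helper4.ThB Module

variable {K : Type*} [Field K] {V : Type*} [AddCommGroup V] [Module K V]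

theorem irr_resGrp (H : Subgroup (V ≃ₗ[K] V)) (𝒲 : Finset (Submodule K V)) (hB : Blocks H 𝒲)
    (hirr : Irr (H : Set (V ≃ₗ[K] V))) (W : Submodule K V) (hW : W ∈ 𝒲) :
    Irr ((resGrp H W : Subgroup (W ≃ₗ[K] W)) : Set (W ≃ₗ[K] W)) := by
  intro U' hU'
  set U : Submodule K V := U'.map W.subtype with hUdef
  have hUW : U ≤ W := by
    rintro _ ⟨u, _, rfl⟩
    exact u.2
  have hstab : ∀ h ∈ stab H W, ∀ u ∈ U, h u ∈ U := by
    rintro h hh _ ⟨u, hu, rfl⟩
    refine ⟨resHom (stab H W) W (inv_stab H W) ⟨h, hh⟩ u, ?_, rfl⟩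
    exact hU' _ (MonoidHom.mem_range.2 ⟨⟨h, hh⟩, rfl⟩) u hu
  set X : Submodule K V := ⨆ h : H, img h.1 U with hXdef
  have hUX : U ≤ X := by
    have h1 : img (1 : V ≃ₗ[K] V) U ≤ X := le_iSup (fun h : H => img h.1 U) ⟨1, H.one_mem⟩
    rw [img_one] at h1
    exact h1
  have hXinv : ∀ g ∈ (H : Set (V ≃ₗ[K] V)), ∀ v ∈ X, g v ∈ X := by
    intro g hg v hv
    have h1 : g v ∈ img g X := apply_mem_img hv
    have h2 : img g X ≤ X := by
      show X.map (g : V →ₗ[K] V) ≤ X
      rw [hXdef, Submodule.map_iSup]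
      apply iSup_le
      intro h
      have h3 : img (g * h.1) U ≤ X :=
        le_iSup (fun h : H => img h.1 U) ⟨g * h.1, H.mul_mem hg h.2⟩
      rw [img_mul] at h3
      exact h3
    exact h2 h1
  rcases hirr X hXinv with hX | hX
  · left
    rw [eq_bot_iff]
    intro u hu
    have h1 : (u : V) ∈ U := ⟨u, hu, rfl⟩
    have h2 : (u : V) ∈ X := hUX h1
    rw [hX, Submodule.mem_bot] at h2
    rw [Submodule.mem_bot]
    exact Subtype.ext h2
  · right
    set Y : Submodule K V := sSup ((𝒲 : Set (Submodule K V)) \ {W}) with hYdef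
    have hdis : Disjoint W Y := hB.indep hW
    have hXle : X ≤ U ⊔ Y := by
      apply iSup_le
      intro h
      by_cases hhW : img h.1 W = W
      · have h1 : img h.1 U ≤ U := by
          rintro _ ⟨u, hu, rfl⟩
          exact hstab h.1 ⟨h.2, hhW⟩ u hu
        exact le_trans h1 le_sup_left
      · have h1 : img h.1 U ≤ img h.1 W := img_mono h.1 hUW
        have h2 : img h.1 W ≤ Y := le_sSup ⟨hB.perm h.1 h.2 W hW, hhW⟩
        exact le_trans (le_trans h1 h2) le_sup_right
    have hWU : W ≤ U := by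
      intro w hw
      have h1 : w ∈ U ⊔ Y := hXle (by rw [hX]; exact Submodule.mem_top)
      obtain ⟨u, hu, y, hy, huy⟩ := Submodule.mem_sup.1 h1
      have h2 : y ∈ W := by
        have : y = w - u := by rw [← huy]; abel
        rw [this]
        exact W.sub_mem hw (hUW hu)
      have h3 : y = 0 := by
        have h4 : y ∈ W ⊓ Y := ⟨h2, hy⟩
        rw [hdis.eq_bot, Submodule.mem_bot] at h4
        exact h4
      rw [h3, add_zero] at huy
      rw [← huy]
      exact hu
    rw [eq_top_iff]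
    intro u _
    obtain ⟨u', hu', hu'u⟩ := hWU u.2
    have : u' = u := Subtype.ext hu'u
    rw [← this]
    exact hu'

end Cfsg.Agent.Helper5.GRR
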