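import Mathlib
import Cfsg.Agent.Lib.GRR.GRRDefs

/-!
# GRR-FREE1: orbits of a cyclic 2-group on subspaces (S3801 block R)

RECIPE.  Let `S := {j : ℕ | img (g^j) W = W}`; `0, 2^m ∈ S`, `S` is closed under `+` and under `j - i` for `i ≤ j`
(`img_mul`, `img_one`; `img (g^i) W = W` implies `img (g^(j-i)) W = W` when `img (g^j) W = W`).  Let `d` be the least
POSITIVE element of `S` (`Nat.find`); then `d ∣ 2^m` (`2^m % d ∈ S` and `< d`), so `d = 2^s` with `s ≤ m`
(`(Nat.dvd_prime_pow Nat.prime_two).1`).  If `a < b < 2^s` and `img (g^a) W = img (g^b) W` then applying `img (g^a)⁻¹`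
gives `b - a ∈ S`, `0 < b - a < d`, contradiction.
-/

set_option autoImplicit false

namespace Cfsg.Agent.Helper5.GRR

open Cfsg.Agent.Helper4.ThB Module

theorem grrfree1_img_inj {K : Type*} [Field K] {V : Type*} [AddCommGroup V] [Module K V]
    (a : V ≃ₗ[K] V) {U U' : Submodule K V} (h : img a U = img a U') : U = U' := by
  have h1 : img a⁻¹ (img a U) = img a⁻¹ (img a U') := by rw [h]
  rwa [← img_mul, ← img_mul, inv_mul_cancel, img_one, img_one] at h1

theorem grrfree1_sub {K : Type*} [Field K] {V : Type*} [AddCommGroup V] [Module K V]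
    (g : V ≃ₗ[K] V) (W : Submodule K V) {i j : ℕ} (hij : i ≤ j)
    (h : img (g ^ i) W = img (g ^ j) W) : img (g ^ (j - i)) W = W := by
  have h1 : g ^ j = g ^ i * g ^ (j - i) := by rw [← pow_add, Nat.add_sub_cancel' hij]
  rw [h1, img_mul] at h
  exact (grrfree1_img_inj (g ^ i) h).symm

theorem grrfree1_add {K : Type*} [Field K] {V : Type*} [AddCommGroup V] [Module K V]
    (g : V ≃ₗ[K] V) (W : Submodule K V) {i j : ℕ}
    (hi : img (g ^ i) W = W) (hj : img (g ^ j) W = W) : img (g ^ (i + j)) W = W := by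
  rw [pow_add, img_mul, hj, hi]

theorem grrfree1_mul {K : Type*} [Field K] {V : Type*} [AddCommGroup V] [Module K V]
    (g : V ≃ₗ[K] V) (W : Submodule K V) {d : ℕ}
    (hd : img (g ^ d) W = W) (q : ℕ) : img (g ^ (d * q)) W = W := by
  induction q with
  | zero => rw [Nat.mul_zero, pow_zero, img_one]
  | succ q ih =>
    rw [Nat.mul_succ]
    exact grrfree1_add g W ih hd

theorem exists_min_stab {K : Type*} [Field K] {V : Type*} [AddCommGroup V] [Module K V]
    (g : V ≃ₗ[K] V) (m : ℕ) (hg : g ^ 2 ^ m = 1) (W : Submodule K V) :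
    ∃ s : ℕ, s ≤ m ∧ img (g ^ 2 ^ s) W = W ∧
      ∀ a < 2 ^ s, ∀ b < 2 ^ s, img (g ^ a) W = img (g ^ b) W → a = b := by
  classical
  have hex : ∃ j : ℕ, 0 < j ∧ img (g ^ j) W = W :=
    ⟨2 ^ m, pow_pos (by norm_num) m, by rw [hg, img_one]⟩
  set d := Nat.find hex with hd
  have hdpos : 0 < d := (Nat.find_spec hex).1
  have hdW : img (g ^ d) W = W := (Nat.find_spec hex).2
  have hmin : ∀ j : ℕ, 0 < j → j < d → img (g ^ j) W ≠ W := by
    intro j hj0 hjd hj
    exact Nat.find_min hex hjd ⟨hj0, hj⟩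
  -- d ∣ 2^m
  have hdvd : d ∣ 2 ^ m := by
    rw [Nat.dvd_iff_mod_eq_zero]
    by_contra hne
    have hr0 : 0 < 2 ^ m % d := Nat.pos_of_ne_zero hne
    have hrd : 2 ^ m % d < d := Nat.mod_lt _ hdpos
    have h1 : img (g ^ (d * (2 ^ m / d))) W = W := grrfree1_mul g W hdW _
    have h2 : img (g ^ (2 ^ m)) W = W := by rw [hg, img_one]
    have h3 : d * (2 ^ m / d) ≤ 2 ^ m := Nat.mul_div_le _ _
    have h4 : img (g ^ (2 ^ m - d * (2 ^ m / d))) W = W :=
      grrfree1_sub g W h3 (h1.trans h2.symm)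
    have h5 : 2 ^ m - d * (2 ^ m / d) = 2 ^ m % d := by
      have := Nat.div_add_mod (2 ^ m) d
      omega
    rw [h5] at h4
    exact hmin _ hr0 hrd h4
  obtain ⟨s, hsm, hs⟩ := (Nat.dvd_prime_pow Nat.prime_two).mp hdvd
  refine ⟨s, hsm, ?_, ?_⟩
  · rw [← hs]; exact hdW
  · intro a ha b hb hab
    rw [← hs] at ha hb
    by_contra hne
    rcases lt_or_gt_of_ne hne with hlt | hlt
    · have h1 := grrfree1_sub g W hlt.le hab
      exact hmin (b - a) (by omega) (by omega) h1
    · have h1 := grrfree1_sub g W hlt.le hab.symm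
      exact hmin (a - b) (by omega) (by omega) h1

end Cfsg.Agent.Helper5.GRR
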