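import Mathlib
import Cfsg.Agent.Lib.GRR.GRRFree1
import Cfsg.Agent.Lib.Helper4.ThBPoly

/-!
# GRR-FREE2: the free-orbit lemma (S3801 block R)

`g` of order dividing `2^m` in characteristic 2 with `(g-1)^(2^m-1) = 0` permutes a finite independent set `𝒲` of
nonzero subspaces.  Then no orbit is regular, and on each `W ∈ 𝒲` the generator `g^(2^s)` of the stabiliser of `W`
in `⟨g⟩` is again tight with exponent `m - s`.

RECIPE.  `geom_sum_eq K a n : ∑ i ∈ range (p^n), a^i = (a-1)^(p^n-1)` (helper4, `ThBPoly`, char `p`) turns the hypothesis into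
`∑ j < 2^m, (op g)^j = 0`.  Take `s` from `exists_min_stab` (GRR-FREE1, black box), `h := g^(2^s)`.  Every `j < 2^m` is uniquely
`a + 2^s * l` with `a < 2^s`, `l < 2^(m-s)`; prove `∑_{j<A*B} x^j = (∑_{a<A} x^a) * (∑_{l<B} (x^A)^l)` by induction on `B`
(or `Finset.sum_product`-style reindexing).  So `0 = (∑_{a<2^s} (op g)^a) u` with `u := (∑_{l<2^(m-s)} (op h)^l) w ∈ W` for `w ∈ W`.
The vectors `(op g)^a u ∈ img (g^a) W` lie in pairwise DISTINCT members of the independent set `𝒲` (FREE1 injectivity; `hperm` by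
induction on `a` gives `img (g^a) W ∈ 𝒲`), hence each is `0` (independence: `sSupIndep` gives
`Disjoint (img (g^a) W) (sSup (𝒲 \ {img (g^a) W}))`, and the sum of the other terms lies in that `sSup`), so `u = 0`
(`g^a` injective).  `geom_sum_eq` again: `((op h - 1)^(2^(m-s)-1)) w = u = 0`.  If `s = m` then `u = w` and we get `w = 0` for all
`w ∈ W`, contradicting `W ≠ ⊥`; hence `s + 1 ≤ m`.
-/

set_option autoImplicit false

namespace Cfsg.Agent.Helper5.GRR

open Cfsg.Agent.Helper4.ThB Module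

theorem GRRFree2_geom_split {A : Type*} [Ring A] (x : A) (a b : ℕ) :
    ∑ j ∈ Finset.range (a * b), x ^ j =
      (∑ i ∈ Finset.range a, x ^ i) * (∑ l ∈ Finset.range b, (x ^ a) ^ l) := by
  induction b with
  | zero => simp
  | succ b ih =>
    rw [Nat.mul_succ, Finset.sum_range_add, ih, Finset.sum_range_succ _ b, mul_add]
    congr 1
    rw [Finset.sum_mul]
    apply Finset.sum_congr rfl
    intro i _
    rw [← pow_mul, ← pow_add, add_comm]

theorem free_orbit {K : Type*} [Field K] [CharP K 2] {V : Type*} [AddCommGroup V] [Module K V]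
    (𝒲 : Finset (Submodule K V)) (hne : ∀ W ∈ 𝒲, W ≠ ⊥)
    (hind : sSupIndep (𝒲 : Set (Submodule K V)))
    (g : V ≃ₗ[K] V) (hperm : ∀ W ∈ 𝒲, img g W ∈ 𝒲) (m : ℕ) (hg : g ^ 2 ^ m = 1)
    (ht : (op g - 1) ^ (2 ^ m - 1) = 0) :
    ∀ W ∈ 𝒲, ∃ s : ℕ, s + 1 ≤ m ∧ img (g ^ 2 ^ s) W = W ∧
      ∀ w ∈ W, ((op (g ^ 2 ^ s) - 1) ^ (2 ^ (m - s) - 1) : Module.End K V) w = 0 := by
  intro W hW
  obtain ⟨s, hsm, hstab, hinj⟩ := exists_min_stab g m hg W
  have hmem : ∀ a : ℕ, img (g ^ a) W ∈ 𝒲 := by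
    intro a
    induction a with
    | zero => rw [pow_zero, img_one]; exact hW
    | succ a ih => rw [pow_succ', img_mul]; exact hperm _ ih
  have hhW : ∀ l : ℕ, ∀ w ∈ W, ((op (g ^ 2 ^ s)) ^ l) w ∈ W := by
    intro l
    induction l with
    | zero => intro w hw; simpa using hw
    | succ l ih =>
      intro w hw
      rw [pow_succ', Module.End.mul_apply]
      have h1 := apply_mem_img (g := g ^ 2 ^ s) (ih w hw)
      rw [hstab] at h1
      exact h1
  have key : ∀ w ∈ W, ((op (g ^ 2 ^ s) - 1) ^ (2 ^ (m - s) - 1) : Module.End K V) w = 0 := by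
    intro w hw
    have e1 : ∑ j ∈ Finset.range (2 ^ m), (op g) ^ j = 0 := by
      rw [geom_sum_eq K (op g) m]; exact ht
    have e2 : 2 ^ m = 2 ^ s * 2 ^ (m - s) := by
      rw [← pow_add]; congr 1; omega
    rw [e2, GRRFree2_geom_split, ← op_pow] at e1
    rw [← geom_sum_eq K (op (g ^ 2 ^ s)) (m - s)]
    set u := (∑ l ∈ Finset.range (2 ^ (m - s)), (op (g ^ 2 ^ s)) ^ l) w with hu
    have huW : u ∈ W := by
      rw [hu, LinearMap.sum_apply]
      exact Submodule.sum_mem _ (fun l _ => hhW l w hw)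
    have e3 : (∑ a ∈ Finset.range (2 ^ s), (op g) ^ a) u = 0 := by
      have h3 := congrArg (fun f : Module.End K V => f w) e1
      exact h3
    have hpos : 0 < 2 ^ s := by positivity
    obtain ⟨n, hn⟩ : ∃ n, 2 ^ s = n + 1 := ⟨2 ^ s - 1, by omega⟩
    rw [hn, Finset.sum_range_succ', LinearMap.add_apply, pow_zero, LinearMap.sum_apply] at e3
    have hrest : ∑ a ∈ Finset.range n, ((op g) ^ (a + 1)) u ∈
        sSup ((𝒲 : Set (Submodule K V)) \ {W}) := by
      apply Submodule.sum_mem
      intro a ha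
      have hlt : a + 1 < 2 ^ s := by
        rw [hn]
        have := Finset.mem_range.1 ha
        omega
      have h1 : ((op g) ^ (a + 1)) u ∈ img (g ^ (a + 1)) W := by
        rw [← op_pow]; exact apply_mem_img huW
      have h2 : img (g ^ (a + 1)) W ∈ (𝒲 : Set (Submodule K V)) \ {W} := by
        refine ⟨hmem _, ?_⟩
        intro hEq
        have hEq' : img (g ^ (a + 1)) W = img (g ^ 0) W := by
          rw [pow_zero, img_one]; exact hEq
        have := hinj (a + 1) hlt 0 hpos hEq'
        omega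
      exact (le_sSup h2) h1
    have hdis := hind (show W ∈ (𝒲 : Set (Submodule K V)) from hW)
    have hu2 : u ∈ sSup ((𝒲 : Set (Submodule K V)) \ {W}) := by
      have h5 : u = -∑ a ∈ Finset.range n, ((op g) ^ (a + 1)) u := by
        have h4 := e3
        rw [Module.End.one_apply] at h4
        exact eq_neg_of_add_eq_zero_right h4
      rw [h5]; exact Submodule.neg_mem _ hrest
    exact (Submodule.disjoint_def.1 hdis) u huW hu2
  refine ⟨s, ?_, hstab, key⟩
  by_contra hlt
  have hs : s = m := by omega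
  apply hne W hW
  rw [Submodule.eq_bot_iff]
  intro w hw
  have h6 := key w hw
  rw [hs, Nat.sub_self, pow_zero, Nat.sub_self, pow_zero] at h6
  simpa using h6

end Cfsg.Agent.Helper5.GRR
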