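import Mathlib
import Cfsg.Agent.Lib.GRR.GRRDefs
import Cfsg.Agent.Lib.Helper22.FrobFreeF

/-!
# GRR-IRRO2: an irreducible finite linear group in characteristic 2 has `O_2 = 1` (S3801 block R)

Proved by helper4.  A normal 2-subgroup `N` of `H` is a nilpotent group of unipotent operators, so it has a nonzero
common fixed vector (`Cfsg.Agent.Helper22.FrobFree.exists_fixed_of_unipotent`); the fixed space is `H`-invariant,
hence everything, so `N = ⊥`.
-/

set_option autoImplicit false
set_option linter.style.haveILetI false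

namespace Cfsg.Agent.Helper5.GRR

open Cfsg.Agent.Helper4.ThB Module

theorem noO2_of_irr {K : Type*} [Field K] [CharP K 2] {V : Type*} [AddCommGroup V] [Module K V]
    (H : Subgroup (V ≃ₗ[K] V)) [Finite H] (hirr : Irr (H : Set (V ≃ₗ[K] V))) : NoO2 H := by
  intro N hNn h2
  haveI : Fact (Nat.Prime 2) := ⟨Nat.prime_two⟩
  by_cases hV : Nontrivial V
  · -- the action of `N`
    let α : ↥N →* Module.End K V :=
      { toFun := fun f => op (f.1.1)
        map_one' := rfl
        map_mul' := fun _ _ => rfl }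
    have hp2 : IsPGroup 2 ↥N := by
      intro f
      obtain ⟨k, hk⟩ := h2 f.1 f.2
      refine ⟨k, ?_⟩
      apply Subtype.ext
      exact hk
    haveI : Group.IsNilpotent ↥N := hp2.isNilpotent
    have huni : ∀ f : ↥N, IsNilpotent (α f - 1) := by
      intro f
      obtain ⟨k, hk⟩ := h2 f.1 f.2
      refine ⟨2 ^ k, ?_⟩
      have h1 : (f.1.1 : V ≃ₗ[K] V) ^ 2 ^ k = 1 := by
        have := congrArg Subtype.val hk
        simpa using this
      show (op (f.1.1) - 1) ^ 2 ^ k = 0
      rw [Cfsg.Agent.Helper4.ThB.sub_one_pow_char_pow (p := 2) K (op f.1.1) k, ← op_pow, h1, op_one,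
        sub_self]
    obtain ⟨u, hu0, hu⟩ := Cfsg.Agent.Helper22.FrobFree.exists_fixed_of_unipotent α huni
    -- the fixed space
    let C : Submodule K V :=
      { carrier := {v | ∀ n : ↥N, n.1.1 v = v}
        add_mem' := by
          intro a b ha hb n
          rw [map_add, ha n, hb n]
        zero_mem' := fun n => map_zero _
        smul_mem' := by
          intro c a ha n
          rw [map_smul, ha n] }
    have hCinv : ∀ g ∈ (H : Set (V ≃ₗ[K] V)), ∀ v ∈ C, g v ∈ C := by
      intro g hg v hv n
      have hmem : (⟨g, hg⟩ : ↥H)⁻¹ * n.1 * ⟨g, hg⟩ ∈ N := by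
        have := hNn.conj_mem n.1 n.2 (⟨g, hg⟩ : ↥H)⁻¹
        rwa [inv_inv] at this
      have h1 := hv ⟨_, hmem⟩
      have h2' : ((g⁻¹ * n.1.1 * g : V ≃ₗ[K] V)) v = v := h1
      have h3 : n.1.1 (g v) = g ((g⁻¹ * n.1.1 * g : V ≃ₗ[K] V) v) := by
        show n.1.1 (g v) = (g * (g⁻¹ * n.1.1 * g)) v
        rw [show g * (g⁻¹ * n.1.1 * g) = n.1.1 * g by group]
        rfl
      rw [h3, h2']
    rcases hirr C hCinv with hbot | htop
    · exfalso
      have hmem : u ∈ C := fun n => hu n
      rw [hbot, Submodule.mem_bot] at hmem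
      exact hu0 hmem
    · rw [eq_bot_iff]
      intro n hn
      rw [Subgroup.mem_bot]
      apply Subtype.ext
      apply LinearEquiv.ext
      intro v
      have hv : v ∈ C := by rw [htop]; trivial
      exact hv ⟨n, hn⟩
  · rw [not_nontrivial_iff_subsingleton] at hV
    rw [eq_bot_iff]
    intro n _
    rw [Subgroup.mem_bot]
    apply Subtype.ext
    apply LinearEquiv.ext
    intro v
    exact Subsingleton.elim _ _

end Cfsg.Agent.Helper5.GRR
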