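import Mathlib
import Cfsg.Agent.Lib.GRR.GRRDefs

/-!
# GRR-SUB: the subdirect-product lemma for `In222` / `In22` (S3801 block R, helper5 design)

RECIPE.  Choose for each `i` a series `Ser222 (N₁ i) (N₂ i) (N₃ i)` in `Δ i` with `φ i x ∈ N₃ i`
and put `M_j := ⨅ i, (N_j i).comap (φ i)` (normal: `Subgroup.normal_iInf_normal`/comap of normal).
`two1`: for `y ∈ M₁` pick `k i` with `(φ i y)^(2^(k i)) = 1`, let `k` be the max over the FINITE `ι`
(`Fintype.ofFinite`, `Finset.sup`), then `φ i (y^(2^k)) = 1` for all `i`, so `hker` gives `k'` with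
`(y^(2^k))^(2^k') = y^(2^(k+k')) = 1`.  `odd2`: product over `i` of the odd `k i` is odd and
`y^(∏ k i) ∈ M₁` since each `N₁ i` is a subgroup.  `two3`: max of the exponents again.
For the `In22` version the bottom term is `⨅ i, (⊥).comap (φ i) = ⨅ i, (φ i).ker = ⊥` by joint injectivity.
-/

set_option autoImplicit false

namespace Cfsg.Agent.Helper5.GRR

/-- the general pull-back of series along a finite family of homomorphisms whose common kernel
consists of 2-elements -/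
theorem ser222_iInf {Γ : Type*} [Group Γ] {ι : Type*} [Finite ι] {Δ : ι → Type*} [∀ i, Group (Δ i)]
    (φ : ∀ i, Γ →* Δ i) (N₁ N₂ N₃ : ∀ i, Subgroup (Δ i))
    (h : ∀ i, Ser222 (N₁ i) (N₂ i) (N₃ i))
    (hker : ∀ y : Γ, (∀ i, φ i y = 1) → ∃ k : ℕ, y ^ 2 ^ k = 1) :
    Ser222 (⨅ i, (N₁ i).comap (φ i)) (⨅ i, (N₂ i).comap (φ i)) (⨅ i, (N₃ i).comap (φ i)) := by
  classical
  letI : Fintype ι := Fintype.ofFinite ι
  refine ⟨?_, ?_, ?_, ?_, ?_, ?_, ?_, ?_⟩
  · exact Subgroup.normal_iInf_normal (fun i => Subgroup.Normal.comap (h i).n1 (φ i))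
  · exact Subgroup.normal_iInf_normal (fun i => Subgroup.Normal.comap (h i).n2 (φ i))
  · exact Subgroup.normal_iInf_normal (fun i => Subgroup.Normal.comap (h i).n3 (φ i))
  · exact iInf_mono (fun i => Subgroup.comap_mono (h i).le12)
  · exact iInf_mono (fun i => Subgroup.comap_mono (h i).le23)
  · intro y hy
    rw [Subgroup.mem_iInf] at hy
    have h1 : ∀ i, ∃ k : ℕ, (φ i y) ^ 2 ^ k = 1 := fun i => (h i).two1 _ (Subgroup.mem_comap.mp (hy i))
    choose k hk using h1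
    have h2 : ∀ i, φ i (y ^ 2 ^ (Finset.univ.sup k)) = 1 := by
      intro i
      rw [map_pow]
      obtain ⟨d, hd⟩ := pow_dvd_pow 2 (Finset.le_sup (f := k) (Finset.mem_univ i))
      rw [hd, pow_mul, hk i, one_pow]
    obtain ⟨k', hk'⟩ := hker _ h2
    refine ⟨Finset.univ.sup k + k', ?_⟩
    rw [pow_add, pow_mul]
    exact hk'
  · intro y hy
    rw [Subgroup.mem_iInf] at hy
    have h1 : ∀ i, ∃ k : ℕ, Odd k ∧ (φ i y) ^ k ∈ N₁ i :=
      fun i => (h i).odd2 _ (Subgroup.mem_comap.mp (hy i))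
    choose k hk using h1
    refine ⟨∏ i, k i, ?_, ?_⟩
    · exact Finset.prod_induction k Odd (fun a b ha hb => ha.mul hb) odd_one (fun i _ => (hk i).1)
    · rw [Subgroup.mem_iInf]
      intro i
      rw [Subgroup.mem_comap, map_pow]
      obtain ⟨d, hd⟩ := Finset.dvd_prod_of_mem k (Finset.mem_univ i)
      rw [hd, pow_mul]
      exact Subgroup.pow_mem _ (hk i).2 d
  · intro y hy
    rw [Subgroup.mem_iInf] at hy
    have h1 : ∀ i, ∃ k : ℕ, (φ i y) ^ 2 ^ k ∈ N₂ i :=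
      fun i => (h i).two3 _ (Subgroup.mem_comap.mp (hy i))
    choose k hk using h1
    refine ⟨Finset.univ.sup k, ?_⟩
    rw [Subgroup.mem_iInf]
    intro i
    rw [Subgroup.mem_comap, map_pow]
    obtain ⟨d, hd⟩ := pow_dvd_pow 2 (Finset.le_sup (f := k) (Finset.mem_univ i))
    rw [hd, pow_mul]
    exact Subgroup.pow_mem _ (hk i) d

theorem in222_of_homs {Γ : Type*} [Group Γ] {ι : Type*} [Finite ι] {Δ : ι → Type*} [∀ i, Group (Δ i)]
    (φ : ∀ i, Γ →* Δ i) (hker : ∀ y : Γ, (∀ i, φ i y = 1) → ∃ k : ℕ, y ^ 2 ^ k = 1)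
    (x : Γ) (hx : ∀ i, In222 (φ i x)) : In222 x := by
  choose N₁ N₂ N₃ hN using hx
  refine ⟨_, _, _, ser222_iInf φ N₁ N₂ N₃ (fun i => (hN i).1) hker, ?_⟩
  rw [Subgroup.mem_iInf]
  intro i
  exact Subgroup.mem_comap.mpr (hN i).2

theorem in22_of_homs {Γ : Type*} [Group Γ] {ι : Type*} [Finite ι] {Δ : ι → Type*} [∀ i, Group (Δ i)]
    (φ : ∀ i, Γ →* Δ i) (hker : ∀ y : Γ, (∀ i, φ i y = 1) → y = 1)
    (x : Γ) (hx : ∀ i, In22 (φ i x)) : In22 x := by
  choose N₂ N₃ hN using hx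
  have hser := ser222_iInf φ (fun i => (⊥ : Subgroup (Δ i))) N₂ N₃ (fun i => (hN i).1)
    (fun y hy => ⟨0, by rw [hker y hy, one_pow]⟩)
  have hbot : (⨅ i, (⊥ : Subgroup (Δ i)).comap (φ i)) = ⊥ := by
    rw [eq_bot_iff]
    intro y hy
    rw [Subgroup.mem_iInf] at hy
    rw [Subgroup.mem_bot]
    apply hker y
    intro i
    exact Subgroup.mem_bot.mp (Subgroup.mem_comap.mp (hy i))
  rw [hbot] at hser
  refine ⟨_, _, hser, ?_⟩
  rw [Subgroup.mem_iInf]
  intro i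
  exact Subgroup.mem_comap.mpr (hN i).2

end Cfsg.Agent.Helper5.GRR
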