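import Mathlib
import Cfsg.Agent.Lib.GRR.GRRBasic
import Cfsg.Agent.Lib.GRR.GRRSub

/-!
# GRR-REDSTEP: the reducible case of the induction (S3801 block R, helper5)
-/

set_option autoImplicit false
set_option linter.unusedSectionVars false

namespace Cfsg.Agent.Helper5.GRR

open Cfsg.Agent.Helper4.ThB Module

universe u v w

/-- binary version of the subdirect lemma -/
theorem in222_of_two_homs {Γ : Type*} {Δ₁ Δ₂ : Type w} [Group Γ] [Group Δ₁] [Group Δ₂]
    (φ₁ : Γ →* Δ₁) (φ₂ : Γ →* Δ₂)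
    (hker : ∀ y : Γ, φ₁ y = 1 → φ₂ y = 1 → ∃ k : ℕ, y ^ 2 ^ k = 1)
    (x : Γ) (h1 : In222 (φ₁ x)) (h2 : In222 (φ₂ x)) : In222 x := by
  let Δ : Bool → Type w := fun b => match b with
    | true => Δ₁
    | false => Δ₂
  let inst : ∀ b, Group (Δ b) := fun b => match b with
    | true => (inferInstance : Group Δ₁)
    | false => (inferInstance : Group Δ₂)
  let φ : ∀ b, Γ →* Δ b := fun b => match b with
    | true => φ₁
    | false => φ₂
  exact in222_of_homs φ (fun y hy => hker y (hy true) (hy false)) x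
    (fun b => match b with
      | true => h1
      | false => h2)

theorem mk_pow_eq {G : Type*} [Group G] (H : Subgroup G) (g : G) (hg : g ∈ H) (k : ℕ) :
    (⟨g ^ k, H.pow_mem hg k⟩ : H) = (⟨g, hg⟩ : H) ^ k := by
  apply Subtype.ext
  rw [Subgroup.coe_pow]

variable {K : Type u} [Field K] {V : Type v} [AddCommGroup V] [Module K V]

theorem red_step [CharP K 2] [FiniteDimensional K V]
    (ih : ∀ N', N' < finrank K V → Stmt222.{u, v} K N')
    (H : Subgroup (V ≃ₗ[K] V)) [Finite H] (hsol : Group.IsSolvable H)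
    (U : Submodule K V) (hU : Inv (H : Set (V ≃ₗ[K] V)) U) (hU0 : U ≠ ⊥) (hU1 : U ≠ ⊤)
    (g : V ≃ₗ[K] V) (hg : g ∈ H) (m : ℕ) (hm : 1 ≤ m) (hgm : g ^ 2 ^ m = 1)
    (ht : (op g - 1) ^ (2 ^ m - 1) = 0) :
    In222 (⟨g ^ 2 ^ (m - 1), H.pow_mem hg _⟩ : H) := by
  have : Finite (resHom H U hU).range := finite_range _
  have : Finite (quotHom H U hU).range := finite_range _
  have hs₁ := solvable_range hsol (resHom H U hU)
  have hs₂ := solvable_range hsol (quotHom H U hU)
  have hlt₁ : finrank K U < finrank K V := Submodule.finrank_lt hU1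
  have hlt₂ : finrank K (V ⧸ U) < finrank K V := by
    have h1 := Submodule.finrank_quotient_add_finrank U
    have hpos : 0 < finrank K U := by
      rw [Module.finrank_pos_iff]
      exact Submodule.nontrivial_iff_ne_bot.2 hU0
    omega
  have hgm' : (⟨g, hg⟩ : H) ^ 2 ^ m = 1 := by
    rw [← mk_pow_eq]
    exact Subtype.ext hgm
  have h1 := ih _ hlt₁ U (resHom H U hU).range rfl hs₁ (resHom H U hU ⟨g, hg⟩) ⟨⟨g, hg⟩, rfl⟩ m hm
    (by rw [← map_pow, hgm', map_one]) (tight_res H U hU ⟨g, hg⟩ _ ht)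
  have h2 := ih _ hlt₂ (V ⧸ U) (quotHom H U hU).range rfl hs₂ (quotHom H U hU ⟨g, hg⟩)
    ⟨⟨g, hg⟩, rfl⟩ m hm
    (by rw [← map_pow, hgm', map_one]) (tight_quot H U hU ⟨g, hg⟩ _ ht)
  refine in222_of_two_homs (resHom H U hU).rangeRestrict (quotHom H U hU).rangeRestrict ?_ _ ?_ ?_
  · intro y hy1 hy2
    refine ⟨1, ?_⟩
    have e1 : resHom H U hU y = 1 := by
      have := congrArg Subtype.val hy1
      exact this
    have e2 : quotHom H U hU y = 1 := by
      have := congrArg Subtype.val hy2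
      exact this
    have hsq : y.1 ^ 2 = 1 := by
      apply sq_eq_one_of_unip U
      · intro u hu
        have := congrArg (fun f : U ≃ₗ[K] U => ((f ⟨u, hu⟩ : U) : V)) e1
        exact this
      · intro v
        have := congrArg (fun f : (V ⧸ U) ≃ₗ[K] (V ⧸ U) => f (Submodule.Quotient.mk v)) e2
        have h3 : (Submodule.Quotient.mk (y.1 v) : V ⧸ U) = Submodule.Quotient.mk v := this
        exact (Submodule.Quotient.eq U).1 h3
    apply Subtype.ext
    rw [pow_one, Subgroup.coe_pow]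
    exact hsq
  · have hmem : resHom H U hU ⟨g, hg⟩ ∈ (resHom H U hU).range := MonoidHom.mem_range.2 ⟨⟨g, hg⟩, rfl⟩
    have : (resHom H U hU).rangeRestrict ⟨g ^ 2 ^ (m - 1), H.pow_mem hg _⟩ =
        ⟨resHom H U hU ⟨g, hg⟩ ^ 2 ^ (m - 1), Subgroup.pow_mem _ hmem _⟩ := by
      apply Subtype.ext
      rw [mk_pow_eq, map_pow]
      rfl
    rw [this]
    exact h1
  · have hmem : quotHom H U hU ⟨g, hg⟩ ∈ (quotHom H U hU).range := MonoidHom.mem_range.2 ⟨⟨g, hg⟩, rfl⟩
    have : (quotHom H U hU).rangeRestrict ⟨g ^ 2 ^ (m - 1), H.pow_mem hg _⟩ =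
        ⟨quotHom H U hU ⟨g, hg⟩ ^ 2 ^ (m - 1), Subgroup.pow_mem _ hmem _⟩ := by
      apply Subtype.ext
      rw [mk_pow_eq, map_pow]
      rfl
    rw [this]
    exact h2

end Cfsg.Agent.Helper5.GRR
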