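import Mathlib
import Cfsg.Agent.Lib.GRR.GRRDefs

/-!
# GRR-STAB: the kernel of the action on the blocks (S3801 block R)

RECIPE.
* `fixAll_conj`: for `W ∈ 𝒲`, `img (h * x * h⁻¹) W = img h (img x (img h⁻¹ W))` (`img_mul`); `img h⁻¹ W ∈ 𝒲` (`hB.perm`), so `x` fixes it, and
  `img h (img h⁻¹ W) = img (h * h⁻¹) W = W`.
* `eq_one_of_fix_blocks`: `LinearMap.ker (op x - 1)` (or `LinearMap.eqLocus`) contains every `W ∈ 𝒲`, hence `sSup 𝒲 = ⊤`.
* `finrank_block_lt`: `𝒲.card ≥ 2` gives `W' ∈ 𝒲`, `W' ≠ W` (`Finset.exists_mem_ne`); `Disjoint W (sSup (𝒲 \ {W}))` and `W' ≤ sSup (𝒲 \ {W})`;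
  if `W = ⊤` then `W' = ⊥`, contradiction with `hB.ne_bot`; so `W < ⊤` and `Submodule.finrank_lt`.
-/

set_option autoImplicit false

namespace Cfsg.Agent.Helper5.GRR

open Cfsg.Agent.Helper4.ThB Module

variable {K : Type*} [Field K] {V : Type*} [AddCommGroup V] [Module K V]

theorem fixAll_conj (H : Subgroup (V ≃ₗ[K] V)) (𝒲 : Finset (Submodule K V)) (hB : Blocks H 𝒲) :
    ∀ h ∈ H, ∀ x ∈ fixAll H 𝒲, h * x * h⁻¹ ∈ fixAll H 𝒲 := by
  intro h hh x hx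
  refine ⟨H.mul_mem (H.mul_mem hh hx.1) (H.inv_mem hh), ?_⟩
  intro W hW
  have h1 : img h⁻¹ W ∈ 𝒲 := hB.perm h⁻¹ (H.inv_mem hh) W hW
  rw [img_mul, img_mul, hx.2 _ h1, ← img_mul, mul_inv_cancel, img_one]

theorem eq_one_of_fix_blocks (H : Subgroup (V ≃ₗ[K] V)) (𝒲 : Finset (Submodule K V)) (hB : Blocks H 𝒲)
    (x : V ≃ₗ[K] V) (hx : ∀ W ∈ 𝒲, ∀ w ∈ W, x w = w) : x = 1 := by
  have h1 : sSup (𝒲 : Set (Submodule K V)) ≤ LinearMap.ker (op x - 1) := by
    apply sSup_le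
    intro W hW w hw
    rw [LinearMap.mem_ker, LinearMap.sub_apply]
    have : x w = w := hx W hW w hw
    show x w - w = 0
    rw [this, sub_self]
  rw [hB.top] at h1
  apply LinearEquiv.ext
  intro v
  have h2 : v ∈ LinearMap.ker (op x - 1) := h1 Submodule.mem_top
  rw [LinearMap.mem_ker, LinearMap.sub_apply] at h2
  have h3 : x v - v = 0 := h2
  show x v = v
  exact sub_eq_zero.mp h3

theorem finrank_block_lt [FiniteDimensional K V] (H : Subgroup (V ≃ₗ[K] V)) (𝒲 : Finset (Submodule K V))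
    (hB : Blocks H 𝒲) (h2 : 2 ≤ 𝒲.card) (W : Submodule K V) (hW : W ∈ 𝒲) :
    finrank K W < finrank K V := by
  have h1 : 1 < 𝒲.card := h2
  obtain ⟨W', hW', hne⟩ := Finset.exists_mem_ne h1 W
  have hdis : Disjoint W (sSup ((𝒲 : Set (Submodule K V)) \ {W})) := hB.indep hW
  have hle : W' ≤ sSup ((𝒲 : Set (Submodule K V)) \ {W}) :=
    le_sSup ⟨hW', by simpa using hne⟩
  have hne' : W ≠ ⊤ := by
    intro htop
    have h4 : Disjoint W W' := hdis.mono_right hle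
    rw [htop] at h4
    have h3 : W' = ⊥ := disjoint_top.mp h4.symm |> fun h => by simpa using h
    exact hB.ne_bot W' hW' h3
  exact Submodule.finrank_lt hne'

end Cfsg.Agent.Helper5.GRR
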