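import Mathlib
import Cfsg.Agent.Lib.GRR.GRRBasic
import Cfsg.Agent.Lib.GRR.GRRSub
import Cfsg.Agent.Lib.GRR.GRRChar
import Cfsg.Agent.Lib.GRR.GRRIrrO2
import Cfsg.Agent.Lib.GRR.GRRFree2
import Cfsg.Agent.Lib.GRR.GRRClIrr
import Cfsg.Agent.Lib.GRR.GRRStab
import Cfsg.Agent.Lib.GRR.GRRRedStep

/-!
# GRR-CLSTEP: the imprimitive (Clifford) case of the induction (S3801 block R, helper5)
-/

set_option autoImplicit false
set_option linter.unusedSectionVars false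

namespace Cfsg.Agent.Helper5.GRR

open Cfsg.Agent.Helper4.ThB Module

universe u v w

theorem in22_of_injective {Γ : Type*} {Δ : Type w} [Group Γ] [Group Δ] (φ : Γ →* Δ)
    (hφ : Function.Injective φ) (x : Γ) (h : In22 (φ x)) : In22 x := by
  refine in22_of_homs (ι := Unit) (Δ := fun _ => Δ) (fun _ => φ) ?_ x (fun _ => h)
  intro y hy
  apply hφ
  rw [hy (), map_one]

theorem in222_of_injective {Γ : Type*} {Δ : Type w} [Group Γ] [Group Δ] (φ : Γ →* Δ)
    (hφ : Function.Injective φ) (x : Γ) (h : In222 (φ x)) : In222 x := by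
  refine in222_of_homs (ι := Unit) (Δ := fun _ => Δ) (fun _ => φ) ?_ x (fun _ => h)
  intro y hy
  refine ⟨0, ?_⟩
  apply hφ
  rw [pow_zero, pow_one, hy (), map_one]

/-- `O_{2',2}` of a normal subgroup, for subgroups of an ambient group -/
theorem in22_of_normal_subgroup {G : Type*} [Group G] (G₀ H : Subgroup G) [Finite H] (hle : G₀ ≤ H)
    (hn : ∀ h ∈ H, ∀ x ∈ G₀, h * x * h⁻¹ ∈ G₀) (x : G) (hx : x ∈ G₀)
    (h : In22 (⟨x, hx⟩ : G₀)) : In22 (⟨x, hle hx⟩ : H) := by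
  haveI hnorm : (G₀.subgroupOf H).Normal := by
    refine ⟨fun n hn' h' => ?_⟩
    rw [Subgroup.mem_subgroupOf] at hn' ⊢
    exact hn h'.1 h'.2 n.1 hn'
  have hx' : (⟨x, hle hx⟩ : H) ∈ G₀.subgroupOf H := by
    rw [Subgroup.mem_subgroupOf]
    exact hx
  have h1 : In22 (⟨⟨x, hle hx⟩, hx'⟩ : G₀.subgroupOf H) := by
    apply in22_of_injective (Subgroup.subgroupOfEquivOfLe hle).toMonoidHom
      (Subgroup.subgroupOfEquivOfLe hle).injective
    have : (Subgroup.subgroupOfEquivOfLe hle).toMonoidHom ⟨⟨x, hle hx⟩, hx'⟩ = ⟨x, hx⟩ := by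
      apply Subtype.ext
      rfl
    rw [this]
    exact h
  exact in22_of_normal (G₀.subgroupOf H) ⟨⟨x, hle hx⟩, hx'⟩ h1

variable {K : Type u} [Field K] {V : Type v} [AddCommGroup V] [Module K V]

theorem img_pow_eq {x : V ≃ₗ[K] V} {W : Submodule K V} (h : img x W = W) (k : ℕ) :
    img (x ^ k) W = W := by
  induction k with
  | zero => rw [pow_zero, img_one]
  | succ k ih => rw [pow_succ, img_mul, h, ih]

theorem cl_step [CharP K 2] [FiniteDimensional K V]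
    (ih : ∀ N', N' < finrank K V → Stmt222.{u, v} K N')
    (H : Subgroup (V ≃ₗ[K] V)) [Finite H] (hsol : Group.IsSolvable H)
    (hirr : Irr (H : Set (V ≃ₗ[K] V))) (𝒲 : Finset (Submodule K V)) (hB : Blocks H 𝒲)
    (h2 : 2 ≤ 𝒲.card)
    (g : V ≃ₗ[K] V) (hg : g ∈ H) (m : ℕ) (hm : 1 ≤ m) (hgm : g ^ 2 ^ m = 1)
    (ht : (op g - 1) ^ (2 ^ m - 1) = 0) :
    In22 (⟨g ^ 2 ^ (m - 1), H.pow_mem hg _⟩ : H) := by
  have hfree := free_orbit 𝒲 hB.ne_bot hB.indep g (fun W hW => hB.perm g hg W hW) m hgm ht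
  choose! s hs1 hs2 hs3 using hfree
  -- `g0` as a power of `g ^ 2 ^ s W`
  have hpow : ∀ W ∈ 𝒲, (g ^ 2 ^ s W) ^ 2 ^ (m - s W - 1) = g ^ 2 ^ (m - 1) := by
    intro W hW
    have := hs1 W hW
    rw [← pow_mul, ← pow_add]
    congr 2
    omega
  -- `g0 ∈ fixAll`
  have hg0 : g ^ 2 ^ (m - 1) ∈ fixAll H 𝒲 := by
    refine ⟨H.pow_mem hg _, fun W hW => ?_⟩
    rw [← hpow W hW]
    exact img_pow_eq (hs2 W hW) _
  have hfin : Finite (fixAll H 𝒲) := finite_of_le (fixAll_le H 𝒲)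
  -- the family of restriction maps
  let φ : ∀ W : 𝒲, (fixAll H 𝒲) →* (resGrp H W.1) := fun W =>
    (resHom (stab H W.1) W.1 (inv_stab H W.1)).rangeRestrict.comp
      (Subgroup.inclusion (fixAll_le_stab H 𝒲 W.2))
  have key : In22 (⟨g ^ 2 ^ (m - 1), hg0⟩ : fixAll H 𝒲) := by
    refine in22_of_homs (ι := 𝒲) (Δ := fun W => resGrp H W.1) φ ?_ _ ?_
    · intro y hy
      apply Subtype.ext
      refine eq_one_of_fix_blocks H 𝒲 hB y.1 (fun W hW w hw => ?_)
      have h1 := congrArg Subtype.val (hy ⟨W, hW⟩)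
      have h3 := congrArg (fun f : W ≃ₗ[K] W => ((f ⟨w, hw⟩ : W) : V)) h1
      exact h3
    · rintro ⟨W, hW⟩
      have hsW := hs1 W hW
      have hgW : g ^ 2 ^ s W ∈ stab H W := ⟨H.pow_mem hg _, hs2 W hW⟩
      have hfinW : Finite (resGrp H W) := finite_resGrp H W
      have hsolW := solvable_resGrp H hsol W
      have hlt := finrank_block_lt H 𝒲 hB h2 W hW
      have hmem : resHom (stab H W) W (inv_stab H W) ⟨g ^ 2 ^ s W, hgW⟩ ∈ resGrp H W :=
        MonoidHom.mem_range.2 ⟨_, rfl⟩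
      have hone : (⟨g ^ 2 ^ s W, hgW⟩ : stab H W) ^ 2 ^ (m - s W) = 1 := by
        apply Subtype.ext
        rw [Subgroup.coe_pow]
        show (g ^ 2 ^ s W) ^ 2 ^ (m - s W) = 1
        rw [← pow_mul, ← pow_add]
        have : s W + (m - s W) = m := by omega
        rw [this]
        exact hgm
      have h1 := ih _ hlt W (resGrp H W) rfl hsolW
        (resHom (stab H W) W (inv_stab H W) ⟨g ^ 2 ^ s W, hgW⟩) hmem (m - s W) (by omega)
        (by rw [← map_pow, hone, map_one])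
        (tight_res' (stab H W) W (inv_stab H W) ⟨g ^ 2 ^ s W, hgW⟩ _ (hs3 W hW))
      have hno : NoO2 (resGrp H W) := noO2_of_irr (resGrp H W) (irr_resGrp H 𝒲 hB hirr W hW)
      have h3 := in22_of_in222 hno h1
      have : φ ⟨W, hW⟩ ⟨g ^ 2 ^ (m - 1), hg0⟩ =
          ⟨resHom (stab H W) W (inv_stab H W) ⟨g ^ 2 ^ s W, hgW⟩ ^ 2 ^ (m - s W - 1),
            Subgroup.pow_mem _ hmem _⟩ := by
        apply Subtype.ext
        show resHom (stab H W) W (inv_stab H W) ⟨g ^ 2 ^ (m - 1), _⟩ =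
          resHom (stab H W) W (inv_stab H W) ⟨g ^ 2 ^ s W, hgW⟩ ^ 2 ^ (m - s W - 1)
        rw [← map_pow]
        congr 1
        apply Subtype.ext
        rw [Subgroup.coe_pow]
        exact (hpow W hW).symm
      rw [this]
      exact h3
  exact in22_of_normal_subgroup (fixAll H 𝒲) H (fixAll_le H 𝒲) (fixAll_conj H 𝒲 hB) _ hg0 key

end Cfsg.Agent.Helper5.GRR
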