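import Mathlib
import Cfsg.Agent.Lib.GRR.GRRDefs

/-!
# GRR-WTA: simultaneous generalised eigenspace decomposition for an abelian linear group (S3801 block R)

`wt B χ = ⨅ b : B, maxGenEigenspace (op b) (χ b)`.

RECIPE.  Family `f : B → Module.End K V`, `f b := op b.1`, pairwise commuting (`op_mul`, `hab`).
* `wt_top`: `Module.End.iSup_iInf_maxGenEigenspace_eq_top_of_iSup_maxGenEigenspace_eq_top_of_commute` (or the variant
  `..._of_forall_mapsTo`) with `Module.End.iSup_maxGenEigenspace_eq_top` (algebraically closed, finite-dimensional) for each `f b`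
  and `Module.End.mapsTo_maxGenEigenspace_of_comm`.
* `wt_indep`: `Module.End.independent_iInf_maxGenEigenspace_of_forall_mapsTo`.
* `wt_finite`: `WellFoundedGT.finite_ne_bot_of_iSupIndep` (a Noetherian module has no infinite independent family of nonzero submodules).
-/

set_option autoImplicit false

namespace Cfsg.Agent.Helper5.GRR

open Cfsg.Agent.Helper4.ThB Module

variable {K : Type*} [Field K] {V : Type*} [AddCommGroup V] [Module K V]

theorem GRRWtA_mapsTo (B : Subgroup (V ≃ₗ[K] V)) (hab : ∀ a ∈ B, ∀ b ∈ B, a * b = b * a)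
    (i j : B) (φ : K) :
    Set.MapsTo (op i.1) ((op j.1).maxGenEigenspace φ) ((op j.1).maxGenEigenspace φ) := by
  apply Module.End.mapsTo_maxGenEigenspace_of_comm
  show op j.1 * op i.1 = op i.1 * op j.1
  rw [← op_mul, ← op_mul, hab j.1 j.2 i.1 i.2]

theorem wt_top [IsAlgClosed K] [FiniteDimensional K V] (B : Subgroup (V ≃ₗ[K] V))
    (hab : ∀ a ∈ B, ∀ b ∈ B, a * b = b * a) : (⨆ χ : B → K, wt B χ) = ⊤ := by
  exact Module.End.iSup_iInf_maxGenEigenspace_eq_top_of_forall_mapsTo
    (fun b : B => op b.1) (GRRWtA_mapsTo B hab)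
    (fun b => Module.End.iSup_maxGenEigenspace_eq_top (op b.1))

theorem wt_indep (B : Subgroup (V ≃ₗ[K] V)) (hab : ∀ a ∈ B, ∀ b ∈ B, a * b = b * a) :
    iSupIndep (fun χ : B → K => wt B χ) := by
  exact Module.End.independent_iInf_maxGenEigenspace_of_forall_mapsTo
    (fun b : B => op b.1) (GRRWtA_mapsTo B hab)

theorem wt_finite [FiniteDimensional K V] (B : Subgroup (V ≃ₗ[K] V))
    (hab : ∀ a ∈ B, ∀ b ∈ B, a * b = b * a) : {χ : B → K | wt B χ ≠ ⊥}.Finite := by
  exact WellFoundedGT.finite_ne_bot_of_iSupIndep (wt_indep B hab)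

end Cfsg.Agent.Helper5.GRR
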