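import Mathlib
import Cfsg.Agent.Lib.GRR.GRRDefs

/-!
# GRR-WTB: a normalising element permutes the weight spaces (S3801 block R)

Proved by helper4.  `op h⁻¹ * (op b - μ•1)^k = (op (h⁻¹ b h) - μ•1)^k * op h⁻¹` (semiconjugation), so
`h⁻¹` carries `maxGenEigenspace (op b) μ` to `maxGenEigenspace (op (h⁻¹ b h)) μ`.
-/

set_option autoImplicit false

namespace Cfsg.Agent.Helper5.GRR

open Cfsg.Agent.Helper4.ThB Module

variable {K : Type*} [Field K] {V : Type*} [AddCommGroup V] [Module K V]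

theorem grrwtb_semiconj (h b : V ≃ₗ[K] V) (μ : K) (k : ℕ) (v : V) :
    ((op (h⁻¹ * b * h) - μ • (1 : Module.End K V)) ^ k) (h⁻¹ v)
      = h⁻¹ (((op b - μ • (1 : Module.End K V)) ^ k) v) := by
  have hs : SemiconjBy (op h⁻¹) (op b - μ • (1 : Module.End K V))
      (op (h⁻¹ * b * h) - μ • (1 : Module.End K V)) := by
    unfold SemiconjBy
    rw [mul_sub, sub_mul, mul_smul_comm, smul_mul_assoc, mul_one, one_mul, ← op_mul, ← op_mul]
    congr 2
    group
  have h1 := hs.pow_right k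
  unfold SemiconjBy at h1
  have h2 := congrArg (fun T : Module.End K V => T v) h1
  simp only [Module.End.mul_apply] at h2
  exact h2.symm

theorem img_wt (B : Subgroup (V ≃ₗ[K] V)) (h : V ≃ₗ[K] V)
    (hn : ∀ b ∈ B, h * b * h⁻¹ ∈ B) (hn' : ∀ b ∈ B, h⁻¹ * b * h ∈ B) (χ : B → K) :
    img h (wt B χ) = wt B (fun b => χ ⟨h⁻¹ * b.1 * h, hn' b.1 b.2⟩) := by
  have hinj : ∀ w : V, h⁻¹ w = 0 → w = 0 := by
    intro w hw
    have : h (h⁻¹ w) = w := by
      show (h * h⁻¹) w = w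
      rw [mul_inv_cancel]; rfl
    rw [← this, hw, map_zero]
  ext v
  rw [mem_img]
  unfold wt
  simp only [Submodule.mem_iInf, Module.End.mem_maxGenEigenspace]
  constructor
  · intro hv b
    obtain ⟨k, hk⟩ := hv ⟨h⁻¹ * b.1 * h, hn' b.1 b.2⟩
    refine ⟨k, ?_⟩
    apply hinj
    rw [← grrwtb_semiconj]
    exact hk
  · intro hv b'
    obtain ⟨k, hk⟩ := hv ⟨h * b'.1 * h⁻¹, hn b'.1 b'.2⟩
    refine ⟨k, ?_⟩
    have e : (⟨h⁻¹ * (h * b'.1 * h⁻¹) * h, hn' _ (hn b'.1 b'.2)⟩ : B) = b' := by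
      apply Subtype.ext
      show h⁻¹ * (h * b'.1 * h⁻¹) * h = b'.1
      group
    simp only [e] at hk
    have h3 := grrwtb_semiconj h (h * b'.1 * h⁻¹) (χ b') k v
    have e2 : h⁻¹ * (h * b'.1 * h⁻¹) * h = b'.1 := by group
    rw [e2, hk, map_zero] at h3
    exact h3

end Cfsg.Agent.Helper5.GRR
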