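import Mathlib
import Cfsg.Agent.Lib.GRR.GRRDefs

/-!
# GRR-WTC: a single weight space forces scalars (odd order, characteristic 2) (S3801 block R)

RECIPE.  Fix `b ∈ B`, `c := χ ⟨b,_⟩`.  `wt B χ = ⊤` gives `maxGenEigenspace (op b) c = ⊤`, so (finite dimension:
`Module.End.maxGenEigenspace_eq_genEigenspace_finrank` or nilpotency of the restriction) `n := op b - c • 1` is nilpotent:
`n^(2^t) = 0` for `2^t ≥ finrank`.  In characteristic 2, `(op b)^(2^t) = (c•1 + n)^(2^t) = c^(2^t) • 1 + n^(2^t) = c^(2^t) • 1`
(`add_pow_char_pow` / `add_pow_expChar_pow` for commuting elements).  Let `k := orderOf b`, odd since it divides `Nat.card B`.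
`gcd(2^t, k) = 1`: pick `u` with `2^t * u ≡ 1 mod k` (`Nat.exists_mul_emod_eq_one_of_coprime` or `ZMod` units / `Nat.Coprime` Bezout),
then `op b = (op b)^(2^t * u) = (c^(2^t))^u • 1` is scalar.  (If `V` is trivial everything is scalar.)
-/

set_option autoImplicit false

namespace Cfsg.Agent.Helper5.GRR

open Cfsg.Agent.Helper4.ThB Module

variable {K : Type*} [Field K] {V : Type*} [AddCommGroup V] [Module K V]

theorem isScal_of_wt_top [CharP K 2] [FiniteDimensional K V] (B : Subgroup (V ≃ₗ[K] V)) [Finite B]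
    (hodd : Odd (Nat.card B)) (χ : B → K) (htop : wt B χ = ⊤) : ∀ b ∈ B, IsScal b := by
  intro b hb
  rcases subsingleton_or_nontrivial V with hV | hV
  · refine ⟨1, ?_⟩
    apply LinearMap.ext
    intro v
    exact Subsingleton.elim _ _
  -- characteristic 2 on the endomorphism ring
  have hinj : Function.Injective (algebraMap K (Module.End K V)) :=
    (algebraMap K (Module.End K V)).injective
  have _hchar : CharP (Module.End K V) 2 := charP_of_injective_algebraMap hinj 2
  have _hp : Fact (Nat.Prime 2) := ⟨Nat.prime_two⟩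
  set c : K := χ ⟨b, hb⟩ with hc
  -- the generalised eigenspace is everything
  have h1 : Module.End.maxGenEigenspace (op b) c = ⊤ := by
    have h2 := iInf_eq_top.mp htop ⟨b, hb⟩
    exact h2
  rw [Module.End.maxGenEigenspace_eq_genEigenspace_finrank, Module.End.genEigenspace_nat,
    LinearMap.ker_eq_top] at h1
  set d := finrank K V with hd
  -- nilpotency of `n := op b - c • 1`
  have hnil : (op b - c • (1 : Module.End K V)) ^ 2 ^ d = 0 :=
    pow_eq_zero_of_le (Nat.lt_two_pow_self).le h1
  -- Frobenius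
  have hcomm : Commute (c • (1 : Module.End K V)) (op b - c • (1 : Module.End K V)) := by
    have : c • (1 : Module.End K V) = algebraMap K (Module.End K V) c := by
      rw [Algebra.algebraMap_eq_smul_one]
    rw [this]
    exact Algebra.commutes' c _
  have hfrob : (op b) ^ 2 ^ d = (c ^ 2 ^ d) • (1 : Module.End K V) := by
    have h3 : op b = c • (1 : Module.End K V) + (op b - c • (1 : Module.End K V)) := by abel
    rw [h3, add_pow_char_pow_of_commute 2 d hcomm, hnil, add_zero, smul_pow, one_pow]
  -- the order of `b` is odd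
  have hordB : orderOf (⟨b, hb⟩ : B) ∣ Nat.card B := orderOf_dvd_natCard _
  have hord : Odd (orderOf b) := by
    have : orderOf b = orderOf (⟨b, hb⟩ : B) := (Subgroup.orderOf_mk b hb).symm
    rw [this]
    exact Odd.of_dvd_nat hodd hordB
  have hcop : Nat.Coprime (2 ^ d) (orderOf b) :=
    Nat.Coprime.pow_left d (Nat.coprime_two_left.mpr hord)
  obtain ⟨u, hu⟩ := exists_pow_eq_self_of_coprime hcop
  refine ⟨(c ^ 2 ^ d) ^ u, ?_⟩
  have h4 : op b = ((op b) ^ 2 ^ d) ^ u := by
    conv_lhs => rw [← hu]
    rw [op_pow, op_pow]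
  rw [h4, hfrob, smul_pow, one_pow]

end Cfsg.Agent.Helper5.GRR
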