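import Mathlib
import Cfsg.Agent.Lib.GRR.GRRWtA
import Cfsg.Agent.Lib.GRR.GRRWtB
import Cfsg.Agent.Lib.GRR.GRRWtC

/-!
# GRR-WT: a non-scalar abelian normal subgroup of odd order gives a system of at least two blocks (S3801 block R)

RECIPE (assembly of GRR-WTA, GRR-WTB, GRR-WTC, all usable as black boxes).
`𝒲 := (wt_finite B hab).toFinset.image (wt B)`.
* `ne_bot`: by definition of the index set.
* `indep`: `wt_indep` is an `iSupIndep`; restrict to the nonzero weights and pass to the set of values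
  (`iSupIndep.comp`, `iSupIndep.sSupIndep_range`, `sSupIndep.mono`, or directly from the definitions; an independent family is
  injective on indices with nonzero value: `iSupIndep.injOn_...`/`iSupIndep.injective` after restricting).
* `top`: `sSup 𝒲 = ⨆ χ, wt B χ = ⊤` by `wt_top` (zero summands do not matter).
* `perm`: `img_wt` with `hn`, `hn'` from `hnorm` applied to `h` and `h⁻¹`; `img h W ≠ ⊥` by `img_eq_bot`.
* `2 ≤ card`: otherwise `𝒲 = ∅` (then `⊤ = ⊥`, `V` trivial, every `b` is scalar) or `𝒲 = {W}` with `W = sSup 𝒲 = ⊤`, and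
  `isScal_of_wt_top` makes `b₀` scalar; contradiction with `hns`.
-/

set_option autoImplicit false

namespace Cfsg.Agent.Helper5.GRR

open Cfsg.Agent.Helper4.ThB Module

variable {K : Type*} [Field K] {V : Type*} [AddCommGroup V] [Module K V]

theorem exists_blocks [IsAlgClosed K] [CharP K 2] [FiniteDimensional K V]
    (H : Subgroup (V ≃ₗ[K] V)) [Finite H] (B : Subgroup (V ≃ₗ[K] V)) (hBH : B ≤ H)
    (hnorm : ∀ h ∈ H, ∀ b ∈ B, h * b * h⁻¹ ∈ B) (hab : ∀ a ∈ B, ∀ b ∈ B, a * b = b * a)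
    (hodd : Odd (Nat.card B)) (b₀ : V ≃ₗ[K] V) (hb₀ : b₀ ∈ B) (hns : ¬ IsScal b₀) :
    ∃ 𝒲 : Finset (Submodule K V), Blocks H 𝒲 ∧ 2 ≤ 𝒲.card := by
  classical
  have hBfin : Finite B :=
    Finite.of_injective (Subgroup.inclusion hBH) (Subgroup.inclusion_injective hBH)
  set 𝒲 : Finset (Submodule K V) := (wt_finite B hab).toFinset.image (wt B) with h𝒲
  have hmem : ∀ W, W ∈ 𝒲 ↔ ∃ χ : B → K, wt B χ ≠ ⊥ ∧ wt B χ = W := by
    intro W
    rw [h𝒲, Finset.mem_image]
    constructor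
    · rintro ⟨χ, hχ, rfl⟩
      exact ⟨χ, (Set.Finite.mem_toFinset _).mp hχ, rfl⟩
    · rintro ⟨χ, hχ, rfl⟩
      exact ⟨χ, (Set.Finite.mem_toFinset _).mpr hχ, rfl⟩
  have htop : sSup (𝒲 : Set (Submodule K V)) = ⊤ := by
    rw [eq_top_iff, ← wt_top B hab]
    apply iSup_le
    intro χ
    by_cases hχ : wt B χ = ⊥
    · rw [hχ]; exact bot_le
    · exact le_sSup (Finset.mem_coe.mpr ((hmem _).mpr ⟨χ, hχ, rfl⟩))
  have hblocks : Blocks H 𝒲 := by
    refine ⟨?_, ?_, htop, ?_⟩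
    · intro W hW
      obtain ⟨χ, hχ, rfl⟩ := (hmem W).mp hW
      exact hχ
    · apply (wt_indep B hab).sSupIndep_range.mono
      intro W hW
      obtain ⟨χ, -, rfl⟩ := (hmem W).mp (Finset.mem_coe.mp hW)
      exact ⟨χ, rfl⟩
    · intro h hh W hW
      obtain ⟨χ, hχ, rfl⟩ := (hmem W).mp hW
      have hn : ∀ b ∈ B, h * b * h⁻¹ ∈ B := hnorm h hh
      have hn' : ∀ b ∈ B, h⁻¹ * b * h ∈ B := by
        intro b hb
        have := hnorm h⁻¹ (H.inv_mem hh) b hb
        rwa [inv_inv] at this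
      rw [img_wt B h hn hn' χ]
      apply (hmem _).mpr
      refine ⟨_, ?_, rfl⟩
      rw [← img_wt B h hn hn' χ]
      intro h0
      exact hχ (img_eq_bot.mp h0)
  refine ⟨𝒲, hblocks, ?_⟩
  by_contra hcard
  have hcard' : 𝒲.card ≤ 1 := by omega
  -- some weight space is everything
  have hex : ∃ χ : B → K, wt B χ = ⊤ := by
    rcases Finset.eq_empty_or_nonempty 𝒲 with he | ⟨W, hW⟩
    · rw [he, Finset.coe_empty, sSup_empty] at htop
      refine ⟨fun _ => 0, ?_⟩
      rw [eq_top_iff, ← htop]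
      exact bot_le
    · obtain ⟨χ, -, hχW⟩ := (hmem W).mp hW
      refine ⟨χ, ?_⟩
      rw [hχW, ← htop]
      apply le_antisymm
      · exact le_sSup (Finset.mem_coe.mpr hW)
      · apply sSup_le
        intro W' hW'
        rw [Finset.card_le_one.mp hcard' W' (Finset.mem_coe.mp hW') W hW]
  obtain ⟨χ, hχ⟩ := hex
  exact hns (isScal_of_wt_top B hodd χ hχ b₀ hb₀)

end Cfsg.Agent.Helper5.GRR
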