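import Mathlib
import Cfsg.Agent.Lib.GRR.GRRClStep
import Cfsg.Agent.Lib.GRR.GRRWt

/-!
# GRR-MAIN: the induction on `dim V` reducing (T) to the CORE configuration (S3801 block R, helper5)
-/

set_option autoImplicit false
set_option linter.unusedSectionVars false

namespace Cfsg.Agent.Helper5.GRR

open Cfsg.Agent.Helper4.ThB Module

universe u v

theorem stmt222_all {K : Type u} [Field K] [IsAlgClosed K] [CharP K 2]
    (hcore : CoreStmt.{u, v} K) : ∀ N : ℕ, Stmt222.{u, v} K N := by
  intro N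
  induction N using Nat.strong_induction_on with
  | _ N ih =>
  intro V _ _ _ H _ hN hsol g hg m hm hgm ht
  subst hN
  by_cases hirr : Irr (H : Set (V ≃ₗ[K] V))
  · by_cases hsc : ∀ B : Subgroup (V ≃ₗ[K] V), B ≤ H → (∀ h ∈ H, ∀ b ∈ B, h * b * h⁻¹ ∈ B) →
        (∀ a ∈ B, ∀ b ∈ B, a * b = b * a) → Odd (Nat.card B) → ∀ b ∈ B, IsScal b
    · by_cases hm1 : m = 1
      · subst hm1
        have h2 : op g - 1 = 0 := by simpa using ht
        have h3 : op g = op (1 : V ≃ₗ[K] V) := by
          rw [op_one]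
          exact sub_eq_zero.mp h2
        have h4 : g = 1 := op_injective h3
        have h5 : (⟨g ^ 2 ^ (1 - 1), H.pow_mem hg _⟩ : H) = 1 := by
          apply Subtype.ext
          show g ^ 2 ^ (1 - 1) = 1
          rw [h4, one_pow]
        rw [h5]
        exact in222_one _
      · exact in222_of_in22 (hcore V H hsol ⟨hirr, hsc⟩ g hg m (by omega) hgm ht)
    · push Not at hsc
      obtain ⟨B, hBH, hnorm, hab, hodd, b₀, hb₀, hns⟩ := hsc
      obtain ⟨𝒲, hB, h2⟩ := exists_blocks H B hBH hnorm hab hodd b₀ hb₀ hns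
      exact in222_of_in22 (cl_step ih H hsol hirr 𝒲 hB h2 g hg m hm hgm ht)
  · unfold Irr at hirr
    push Not at hirr
    obtain ⟨U, hU, hU0, hU1⟩ := hirr
    exact red_step ih H hsol U hU hU0 hU1 g hg m hm hgm ht

end Cfsg.Agent.Helper5.GRR
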