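import Mathlib
import Cfsg.Agent.Lib.GRR.GRRMain
import Cfsg.Agent.Lib.GRR.GRREqv
import Cfsg.Agent.Lib.GT.GTCore

/-!
# GRR-FINAL: Gross's theorem (T) from the CORE theorem (S3801 block R, helper5)

`gross_T_final` has exactly the statement of `Cfsg.Agent.Helper21.GT.gross_T`.
-/

set_option autoImplicit false
set_option linter.unusedSectionVars false

namespace Cfsg.Agent.Helper5.GRR

open Cfsg.Agent.Helper4.ThB Module
open scoped TensorProduct

universe u v w

theorem pCore_eq_bot_of_noO2 {Γ : Type*} [Group Γ] (h : NoO2 Γ) : Cfsg.pCore 2 Γ = ⊥ := by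
  have hp : IsPGroup 2 (Cfsg.pCore 2 Γ) := Sylow.sSup_of_normal _ (fun _ h => h.2) (fun _ h => h.1)
  apply h (Cfsg.pCore 2 Γ) inferInstance
  intro y hy
  obtain ⟨k, hk⟩ := hp ⟨y, hy⟩
  exact ⟨k, congrArg Subtype.val hk⟩

theorem noO2_of_pCore_eq_bot {Γ : Type*} [Group Γ] (h : Cfsg.pCore 2 Γ = ⊥) : NoO2 Γ := by
  intro N hN h2
  have hp : IsPGroup 2 N := by
    intro y
    obtain ⟨k, hk⟩ := h2 y.1 y.2
    exact ⟨k, Subtype.ext hk⟩
  have : N ≤ Cfsg.pCore 2 Γ := le_sSup ⟨hN, hp⟩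
  rw [h] at this
  exact le_bot_iff.1 this

/-- the CORE statement of block R is what helper21's `core` (blocks P + E) proves -/
theorem coreStmt_of_gt {K : Type u} [Field K] [IsAlgClosed K] [CharP K 2] : CoreStmt.{u, v} K := by
  intro V _ _ _ H _ hsol hcore g hg m hm hgm ht
  have hno := noO2_of_irr H hcore.irr
  have hO2 := pCore_eq_bot_of_noO2 hno
  have h1 := Cfsg.Agent.Helper21.GT.core H hsol hO2 hcore.irr hcore.scal g hg m (by omega) hgm ht
  rw [mk_pow_eq H g hg]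
  exact in22_of_mem _ h1

/-- (T) over an algebraically closed field, abstract group with a faithful representation -/
theorem gross_T_algClosed {K : Type u} [Field K] [IsAlgClosed K] [CharP K 2] {V : Type v}
    [AddCommGroup V] [Module K V] [FiniteDimensional K V] {H : Type w} [Group H] [Finite H]
    (hsolv : Group.IsSolvable H) (hO2 : Cfsg.pCore 2 H = ⊥) (ρ : H →* (V ≃ₗ[K] V))
    (hρ : Function.Injective ρ) (g : H) (m : ℕ) (hm : 1 ≤ m) (hgm : g ^ 2 ^ m = 1)
    (ht : (op (ρ g) - 1) ^ (2 ^ m - 1) = 0) : g ^ 2 ^ (m - 1) ∈ Cfsg.pPrimePCore 2 H := by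
  have hfin : Finite ρ.range := finite_range ρ
  have hsol := solvable_range hsolv ρ
  have hmem : ρ g ∈ ρ.range := MonoidHom.mem_range.2 ⟨g, rfl⟩
  have h1 := stmt222_all.{u, v} (coreStmt_of_gt (K := K)) (finrank K V) V ρ.range rfl hsol (ρ g) hmem m hm
    (by rw [← map_pow, hgm, map_one]) ht
  have hinj : Function.Injective ρ.rangeRestrict := by
    intro a b hab
    apply hρ
    exact congrArg Subtype.val hab
  have h2 : In222 (g ^ 2 ^ (m - 1)) := by
    apply in222_of_injective ρ.rangeRestrict hinj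
    have : ρ.rangeRestrict (g ^ 2 ^ (m - 1)) = ⟨ρ g ^ 2 ^ (m - 1), Subgroup.pow_mem _ hmem _⟩ := by
      apply Subtype.ext
      show ρ (g ^ 2 ^ (m - 1)) = ρ g ^ 2 ^ (m - 1)
      rw [map_pow]
    rw [this]
    exact h1
  exact mem_of_in22 _ (in22_of_in222 (noO2_of_pCore_eq_bot hO2) h2)

/-- **Gross's theorem (T)**, exactly the statement of `Cfsg.Agent.Helper21.GT.gross_T` -/
theorem gross_T_final {F : Type u} [Field F] [CharP F 2] {V : Type v} [AddCommGroup V] [Module F V]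
    [FiniteDimensional F V] {H : Type w} [Group H] [Finite H] (hsolv : Group.IsSolvable H)
    (hO2 : Cfsg.pCore 2 H = ⊥) (ρ : H →* (V ≃ₗ[F] V)) (hρ : Function.Injective ρ)
    (g : H) (m : ℕ) (hm : 1 ≤ m) (hgm : g ^ 2 ^ m = 1) (ht : (op (ρ g) - 1) ^ (2 ^ m - 1) = 0) :
    g ^ 2 ^ (m - 1) ∈ Cfsg.pPrimePCore 2 H := by
  haveI : CharP (AlgebraicClosure F) 2 :=
    charP_of_injective_algebraMap (algebraMap F (AlgebraicClosure F)).injective 2
  refine gross_T_algClosed (K := AlgebraicClosure F) (V := AlgebraicClosure F ⊗[F] V) hsolv hO2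
    ((bcHom (AlgebraicClosure F)).comp ρ) ?_ g m hm hgm ?_
  · exact (bcHom_injective (AlgebraicClosure F)).comp hρ
  · show (op (bcHom (AlgebraicClosure F) (ρ g)) - 1) ^ (2 ^ m - 1) = 0
    rw [op_bcHom_sub_one_pow, ht, map_zero]

end Cfsg.Agent.Helper5.GRR
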